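import Groth.Agent.LambdaRing.K537.Newton
import Mathlib.LinearAlgebra.Basis.Basic

/-!
# The series `(1 + u t)^c` for `c` in a binomial ring, and the lambda structure on a `K`-algebra with
a basis of line elements
-/

set_option autoImplicit false
universe u v w

open Finset LambdaRing PowerSeries

namespace K537.BinSeries

open Groth.Agent.Books.Lambda1 K537.Newton

section ops

variable {R : Type v} [CommRing R]

/-- a pre-λ-structure from a map to power series -/
@[reducible] noncomputable def opsOf (Λ : R → PowerSeries R) (h0 : ∀ x, constantCoeff (Λ x) = 1)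
    (h1 : ∀ x, coeff 1 (Λ x) = x) (hadd : ∀ x y, Λ (x + y) = Λ x * Λ y) : LambdaOps R where
  lam n x := coeff n (Λ x)
  lam_zero x := by rw [coeff_zero_eq_constantCoeff_apply, h0]
  lam_one x := h1 x
  lam_add k x y := by
    rw [hadd, coeff_mul, Finset.Nat.sum_antidiagonal_eq_sum_range_succ_mk]

lemma lamSeries_opsOf (Λ : R → PowerSeries R) (h0 : ∀ x, constantCoeff (Λ x) = 1)
    (h1 : ∀ x, coeff 1 (Λ x) = x) (hadd : ∀ x y, Λ (x + y) = Λ x * Λ y) (x : R) :
    @lamSeries R _ (opsOf Λ h0 h1 hadd) x = Λ x := by
  ext n
  exact coeff_mk _ _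

end ops

section bs

variable {K : Type u} [CommRing K] [BinomialRing K] {R : Type v} [CommRing R] [Algebra K R]

/-- the series `(1 + u t)^c` -/
noncomputable def bs (c : K) (u : R) : PowerSeries R :=
  PowerSeries.mk fun n => algebraMap K R (Ring.choose c n) * u ^ n

@[simp] lemma coeff_bs (c : K) (u : R) (n : ℕ) :
    coeff n (bs c u) = algebraMap K R (Ring.choose c n) * u ^ n := by
  rw [bs, coeff_mk]

lemma constantCoeff_bs (c : K) (u : R) : constantCoeff (bs c u) = 1 := by
  rw [← coeff_zero_eq_constantCoeff_apply, coeff_bs, Ring.choose_zero_right, map_one, pow_zero,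
    mul_one]

lemma coeff_one_bs (c : K) (u : R) : coeff 1 (bs c u) = algebraMap K R c * u := by
  rw [coeff_bs, Ring.choose_one_right, pow_one]

lemma bs_zero (u : R) : bs (0 : K) u = 1 := by
  ext n
  rw [coeff_bs, coeff_one, Ring.choose_zero_ite]
  split_ifs with h
  · subst h; simp
  · simp

lemma bs_add (c c' : K) (u : R) : bs (c + c') u = bs c u * bs c' u := by
  ext n
  rw [coeff_bs, coeff_mul, Ring.add_choose_eq n (Commute.all c c'), map_sum, Finset.sum_mul]
  refine Finset.sum_congr rfl fun p hp => ?_
  rw [coeff_bs, coeff_bs, map_mul, ← Finset.mem_antidiagonal.1 hp, pow_add]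
  ring

/-- the logarithmic derivative of `(1 + u t)^c` -/
noncomputable def dbs (c : K) (u : R) : PowerSeries R :=
  PowerSeries.mk fun n => (-1) ^ n * (algebraMap K R c * u ^ (n + 1))

lemma succ_mul_choose (c : K) (n : ℕ) :
    ((n : K) + 1) * Ring.choose c (n + 1) = Ring.choose c n * (c - n) := by
  have h := Ring.choose_smul_choose c (n := n + 1) (k := n) (by omega)
  rw [Nat.choose_succ_self_right, nsmul_eq_mul] at h
  rw [show n + 1 - n = 1 by omega, Ring.choose_one_right] at h
  rw [← h]
  push_cast
  ring

lemma derivative_bs (c : K) (u : R) :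
    PowerSeries.derivative R (bs c u) = bs c u * dbs c u := by
  have hunit : IsUnit (1 + PowerSeries.C u * X : PowerSeries R) := by
    rw [PowerSeries.isUnit_iff_constantCoeff]
    simp
  apply hunit.mul_left_cancel
  have h1 : (1 + PowerSeries.C u * X) * dbs c u = PowerSeries.C (algebraMap K R c * u) := by
    ext n
    rw [add_mul, one_mul, map_add, mul_assoc, PowerSeries.coeff_C_mul, PowerSeries.coeff_C]
    cases n with
    | zero => simp [dbs]
    | succ n =>
      rw [PowerSeries.coeff_succ_X_mul, dbs, coeff_mk, coeff_mk, if_neg (by omega)]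
      ring
  calc (1 + PowerSeries.C u * X) * PowerSeries.derivative R (bs c u)
      = bs c u * PowerSeries.C (algebraMap K R c * u) := by
        ext n
        rw [add_mul, one_mul, map_add, mul_assoc, PowerSeries.coeff_C_mul, PowerSeries.coeff_mul_C,
          PowerSeries.coeff_derivative, coeff_bs, coeff_bs]
        have key : algebraMap K R (Ring.choose c (n + 1)) * ((n : R) + 1) =
            algebraMap K R (Ring.choose c n) * (algebraMap K R c - n) := by
          have := congrArg (algebraMap K R) (succ_mul_choose c n)
          rw [map_mul, map_mul, map_sub, map_add, map_one, map_natCast] at this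
          rw [← this]; ring
        cases n with
        | zero =>
          simp only [Nat.cast_zero, zero_add, pow_one, PowerSeries.coeff_zero_X_mul, mul_zero,
            add_zero, pow_zero, mul_one, Ring.choose_zero_right, Ring.choose_one_right, map_one,
            one_mul]
        | succ n =>
          rw [PowerSeries.coeff_succ_X_mul, PowerSeries.coeff_derivative, coeff_bs]
          push_cast at key ⊢
          linear_combination u ^ (n + 2) * key
    _ = _ := by rw [← h1]; ring

end bs

section basis

variable {K : Type u} [CommRing K] [BinomialRing K] {R : Type v} [CommRing R] [Algebra K R]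
  {M : Type w} (b : Module.Basis M K R)

/-- the product of the series `(1 + b_m t)^(c_m)` -/
noncomputable def Lam (x : R) : PowerSeries R := (b.repr x).prod fun m c => bs c (b m)

lemma Lam_add (x y : R) : Lam b (x + y) = Lam b x * Lam b y := by
  classical
  rw [Lam, Lam, Lam, map_add, Finsupp.prod_add_index']
  · intro m; exact bs_zero _
  · intro m c c'; exact bs_add _ _ _

lemma Lam_zero : Lam b 0 = 1 := by rw [Lam, map_zero, Finsupp.prod_zero_index]

lemma Lam_smul (m : M) (c : K) : Lam b (c • b m) = bs c (b m) := by
  rw [Lam, map_smul, Module.Basis.repr_self, Finsupp.smul_single, smul_eq_mul, mul_one,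
    Finsupp.prod_single_index]
  exact bs_zero _

omit [BinomialRing K] in
lemma induction_basis {P : R → Prop} (h0 : P 0) (hadd : ∀ x y, P x → P y → P (x + y))
    (h : ∀ (c : K) (m : M), P (c • b m)) (x : R) : P x := by
  rw [← b.linearCombination_repr x, Finsupp.linearCombination_apply, Finsupp.sum]
  exact Finset.sum_induction _ P hadd h0 fun m _ => h _ m

lemma constantCoeff_Lam (x : R) : constantCoeff (Lam b x) = 1 := by
  refine induction_basis b (P := fun x => constantCoeff (Lam b x) = 1) ?_ ?_ ?_ x
  · simp [Lam_zero]
  · intro x y hx hy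
    rw [Lam_add, map_mul, hx, hy, one_mul]
  · intro c m
    rw [Lam_smul, constantCoeff_bs]

lemma coeff_one_Lam (x : R) : coeff 1 (Lam b x) = x := by
  refine induction_basis b (P := fun x => coeff 1 (Lam b x) = x) ?_ ?_ ?_ x
  · simp [Lam_zero, coeff_one]
  · intro x y hx hy
    rw [Lam_add, coeff_mul, Finset.Nat.sum_antidiagonal_eq_sum_range_succ_mk,
      Finset.sum_range_succ, Finset.sum_range_one]
    simp only [Nat.sub_zero, Nat.sub_self, hx, hy, coeff_zero_eq_constantCoeff_apply,
      constantCoeff_Lam]
    ring
  · intro c m
    rw [Lam_smul, coeff_one_bs, Algebra.smul_def]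

/-- the lambda structure in which the basis elements are line elements and `K` is binomial -/
@[reducible] noncomputable def opsOfBasis : LambdaOps R :=
  opsOf (Lam b) (constantCoeff_Lam b) (coeff_one_Lam b) (Lam_add b)

lemma lamSeries_opsOfBasis (c : K) (m : M) :
    @lamSeries R _ (opsOfBasis b) (c • b m) = bs c (b m) := by
  rw [lamSeries_opsOf, Lam_smul]

end basis

section adams

variable {K : Type u} [CommRing K] [BinomialRing K] {R : Type v} [CommRing R] [Algebra K R]
  [LambdaOps R]

/-- the Adams operations of a multiple of a line element -/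
lemma adamsOp_of_lamSeries (x : R) (c : K) (u : R) (h : lamSeries x = bs c u) (k : ℕ)
    (hk : 1 ≤ k) : adamsOp k x = algebraMap K R c * u ^ k := by
  obtain ⟨k, rfl⟩ : ∃ m, k = m + 1 := ⟨k - 1, by omega⟩
  have h1 : logDerivSeries x = dbs c u := by
    apply logDerivSeries_unique
    rw [h, derivative_bs]
  rw [adamsOp, h1, dbs, coeff_mk, ← mul_assoc, ← mul_pow]
  simp

/-- the Adams operations are the algebra maps which raise the line elements to powers -/
lemma adamsOp_eq_algHom {M : Type w} (b : Module.Basis M K R)
    (hb : ∀ (c : K) (m : M), lamSeries (c • b m) = bs c (b m)) (k : ℕ) (hk : 1 ≤ k)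
    (χ : R →ₐ[K] R) (hχ : ∀ m, χ (b m) = b m ^ k) (x : R) : adamsOp k x = χ x := by
  refine induction_basis b (P := fun x => adamsOp k x = χ x) ?_ ?_ ?_ x
  · rw [adamsOp_zero_arg, map_zero]
  · intro x y hx hy
    rw [adamsOp_add, map_add, hx, hy]
  · intro c m
    rw [adamsOp_of_lamSeries (c • b m) c (b m) (hb c m) k hk, map_smul, hχ, Algebra.smul_def]

end adams

section map

variable {R : Type v} {R' : Type w} [CommRing R] [LambdaOps R] [CommRing R'] [LambdaOps R']

/-- the elements whose lambda operations are respected by a ring homomorphism -/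
def good (f : R →+* R') : AddSubgroup R where
  carrier := {x | PowerSeries.map f (lamSeries x) = lamSeries (f x)}
  zero_mem' := by
    change PowerSeries.map f (lamSeries 0) = lamSeries (f 0)
    rw [map_zero f, lamSeries_zero, lamSeries_zero, map_one]
  add_mem' := by
    intro x y hx hy
    change PowerSeries.map f (lamSeries (x + y)) = lamSeries (f (x + y))
    change PowerSeries.map f (lamSeries x) = lamSeries (f x) at hx
    change PowerSeries.map f (lamSeries y) = lamSeries (f y) at hy
    rw [map_add f, lamSeries_add, lamSeries_add, map_mul, hx, hy]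
  neg_mem' := by
    intro x hx
    change PowerSeries.map f (lamSeries (-x)) = lamSeries (f (-x))
    change PowerSeries.map f (lamSeries x) = lamSeries (f x) at hx
    have h1 : PowerSeries.map f (lamSeries x) * PowerSeries.map f (lamSeries (-x)) = 1 := by
      rw [← map_mul, lamSeries_mul_neg, map_one]
    have h2 : lamSeries (f x) * lamSeries (f (-x)) = 1 := by
      rw [map_neg f, lamSeries_mul_neg]
    apply (isUnit_lamSeries (f x)).mul_left_cancel
    rw [h2, ← hx, h1]

lemma mem_good (f : R →+* R') (x : R) :
    x ∈ good f ↔ ∀ n, f (LambdaOps.lam n x) = LambdaOps.lam n (f x) := by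
  change PowerSeries.map f (lamSeries x) = lamSeries (f x) ↔ _
  constructor
  · intro h n
    have := congrArg (coeff n) h
    simpa using this
  · intro h
    ext n
    simp [h n]

lemma mem_good_iff_series (f : R →+* R') (x : R) :
    x ∈ good f ↔ PowerSeries.map f (lamSeries x) = lamSeries (f x) := Iff.rfl

end map

end K537.BinSeries
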