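import Groth.Agent.LambdaRing.K537.BinSeries
import Groth.Agent.Books.Lambda2

/-!
# Closure properties: subrings of a strict lambda-ring and comparison along a ring homomorphism
-/

set_option autoImplicit false
universe u v w

open Finset LambdaRing

namespace K537.Closure

open Groth.Agent.Books.Lambda1 Groth.Agent.Books.Lambda2

section conversion

variable {R : Type u} [CommRing R] [LambdaOps R]

/-- the lower terms in `γ^n = λ^n + …` -/
lemma gamma_eq (n : ℕ) (hn : n ≠ 0) (x : R) :
    gamma n x = LambdaOps.lam n x +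
      ∑ j ∈ range n, (if j = 0 then 0 else Nat.choose (n - 1) (j - 1)) • LambdaOps.lam j x := by
  rw [gamma, if_neg hn, Finset.sum_range_succ, add_comm]
  congr 1
  · rw [if_neg hn, Nat.choose_self]; simp
  · refine Finset.sum_congr rfl fun j _ => ?_
    split_ifs with h
    · simp
    · rw [nsmul_eq_mul]

/-- gamma operations in terms of lambda operations -/
lemma gamma_mem (A : AddSubgroup R) (n : ℕ) (x : R) (h1 : (1 : R) ∈ A)
    (h : ∀ j, 1 ≤ j → j ≤ n → LambdaOps.lam j x ∈ A) : gamma n x ∈ A := by
  by_cases hn : n = 0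
  · subst hn; rw [gamma_zero]; exact h1
  · rw [gamma_eq n hn]
    refine add_mem (h n (by omega) le_rfl) (sum_mem fun j hj => ?_)
    rcases Nat.eq_zero_or_pos j with hj0 | hj0
    · subst hj0; simp
    · exact nsmul_mem (h j hj0 (by have := Finset.mem_range.1 hj; omega)) _

/-- lambda operations in terms of gamma operations -/
lemma lam_mem (A : AddSubgroup R) (x : R) (h1 : (1 : R) ∈ A) (N : ℕ)
    (h : ∀ j, 1 ≤ j → j ≤ N → gamma j x ∈ A) : ∀ n ≤ N, LambdaOps.lam n x ∈ A := by
  intro n
  induction n using Nat.strong_induction_on with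
  | _ n ih =>
    intro hnN
    by_cases hn : n = 0
    · subst hn; rw [LambdaOps.lam_zero]; exact h1
    · have h2 := gamma_eq n hn x
      have h3 : LambdaOps.lam n x = gamma n x -
          ∑ j ∈ range n, (if j = 0 then 0 else Nat.choose (n - 1) (j - 1)) • LambdaOps.lam j x := by
        rw [h2]; ring
      rw [h3]
      refine sub_mem (h n (by omega) hnN) (sum_mem fun j hj => ?_)
      have hj := Finset.mem_range.1 hj
      exact nsmul_mem (ih j hj (by omega)) _

variable {R' : Type v} [CommRing R'] [LambdaOps R'] (f : R →+* R')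

lemma map_gamma_of (N : ℕ) (x : R)
    (h : ∀ j ≤ N, f (LambdaOps.lam j x) = LambdaOps.lam j (f x)) :
    ∀ n ≤ N, f (gamma n x) = gamma n (f x) := by
  intro n hnN
  by_cases hn : n = 0
  · subst hn; rw [gamma_zero, gamma_zero, map_one]
  · rw [gamma_eq n hn, gamma_eq n hn, map_add, h n hnN, map_sum]
    congr 1
    refine Finset.sum_congr rfl fun j hj => ?_
    have hj := Finset.mem_range.1 hj
    rw [map_nsmul, h j (by omega)]

lemma map_lam_of (N : ℕ) (x : R)
    (h : ∀ j ≤ N, f (gamma j x) = gamma j (f x)) :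
    ∀ n ≤ N, f (LambdaOps.lam n x) = LambdaOps.lam n (f x) := by
  intro n
  induction n using Nat.strong_induction_on with
  | _ n ih =>
    intro hnN
    by_cases hn : n = 0
    · subst hn; rw [LambdaOps.lam_zero, LambdaOps.lam_zero, map_one]
    · have h2 := h n hnN
      rw [gamma_eq n hn, gamma_eq n hn, map_add, map_sum] at h2
      have h3 : ∑ j ∈ range n,
          f ((if j = 0 then 0 else Nat.choose (n - 1) (j - 1)) • LambdaOps.lam j x) =
          ∑ j ∈ range n,
            (if j = 0 then 0 else Nat.choose (n - 1) (j - 1)) • LambdaOps.lam j (f x) := by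
        refine Finset.sum_congr rfl fun j hj => ?_
        have hj := Finset.mem_range.1 hj
        rw [map_nsmul, ih j hj (by omega)]
      rw [h3] at h2
      exact add_right_cancel h2

end conversion

section subring

variable {R : Type u} [CommRing R] [LambdaOps R]

omit [LambdaOps R] in
lemma aeval_mem {σ : Type w} (A : Subring R) (v : σ → R) (hv : ∀ i, v i ∈ A)
    (p : MvPolynomial σ ℤ) : MvPolynomial.aeval v p ∈ A := by
  induction p using MvPolynomial.induction_on with
  | C a => rw [MvPolynomial.aeval_C]; exact intCast_mem A a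
  | add p q hp hq => rw [map_add]; exact add_mem hp hq
  | mul_X p i hp => rw [map_mul, MvPolynomial.aeval_X]; exact mul_mem hp (hv i)

/-- the elements all of whose lambda operations lie in a subring -/
def cl (A : Subring R) : AddSubgroup R where
  carrier := {x | ∀ n, LambdaOps.lam n x ∈ A}
  zero_mem' := by
    intro n
    rw [← coeff_lamSeries, lamSeries_zero, PowerSeries.coeff_one]
    split_ifs
    · exact one_mem _
    · exact zero_mem _
  add_mem' := by
    intro x y hx hy n
    rw [LambdaOps.lam_add]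
    exact sum_mem fun i _ => mul_mem (hx i) (hy (n - i))
  neg_mem' := by
    intro x hx n
    induction n using Nat.strong_induction_on with
    | _ n ih =>
      obtain _ | n := n
      · rw [LambdaOps.lam_zero]; exact one_mem _
      · have h := LambdaOps.lam_add (n + 1) x (-x)
        rw [add_neg_cancel, ← coeff_lamSeries, lamSeries_zero, PowerSeries.coeff_one,
          if_neg (by omega), Finset.sum_range_succ', LambdaOps.lam_zero, one_mul] at h
        have h2 : LambdaOps.lam (n + 1) (-x) =
            -∑ k ∈ range (n + 1), LambdaOps.lam (k + 1) x * LambdaOps.lam (n + 1 - (k + 1)) (-x) := by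
          rw [Nat.sub_zero] at h
          linear_combination -h
        rw [h2]
        exact neg_mem (sum_mem fun i _ => mul_mem (hx (i + 1)) (ih (n + 1 - (i + 1)) (by omega)))

lemma mem_cl {A : Subring R} {x : R} : x ∈ cl A ↔ ∀ n, LambdaOps.lam n x ∈ A := Iff.rfl

lemma cl_mul (hR : IsSpecial R)
    (hP : ∀ n : ℕ, ∃ P : MvPolynomial (Fin n ⊕ Fin n) ℤ, IsMulPoly n P) {A : Subring R} {x y : R}
    (hx : x ∈ cl A) (hy : y ∈ cl A) : x * y ∈ cl A := by
  intro n
  obtain ⟨P, hP⟩ := hP n
  rw [hR.lam_mul n P hP]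
  refine aeval_mem A _ ?_ P
  rintro (k | k)
  · exact hx _
  · exact hy _

lemma cl_lam (hR : IsSpecial R)
    (hQ : ∀ i j : ℕ, ∃ Q : MvPolynomial (Fin (i * j)) ℤ, IsCompPoly i j Q) {A : Subring R} {x : R}
    (hx : x ∈ cl A) (i : ℕ) : LambdaOps.lam i x ∈ cl A := by
  intro n
  obtain ⟨Q, hQ⟩ := hQ i n
  rw [hR.lam_lam i n Q hQ]
  exact aeval_mem A _ (fun k => hx _) Q

lemma cl_one (hR : IsSpecial R) (A : Subring R) : (1 : R) ∈ cl A := by
  intro n
  rcases n with _ | _ | n
  · rw [LambdaOps.lam_zero]; exact one_mem _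
  · rw [LambdaOps.lam_one]; exact one_mem _
  · rw [hR.lam_one_eq_zero _ (by omega)]; exact zero_mem _

lemma cl_gamma (hR : IsSpecial R)
    (hQ : ∀ i j : ℕ, ∃ Q : MvPolynomial (Fin (i * j)) ℤ, IsCompPoly i j Q) {A : Subring R} {x : R}
    (hx : x ∈ cl A) (i : ℕ) : gamma i x ∈ cl A :=
  gamma_mem (cl A) i x (cl_one hR A) (fun j _ _ => cl_lam hR hQ hx j)

lemma mem_cl_of_gamma {A : Subring R} {x : R} (h : ∀ n, gamma n x ∈ A) : x ∈ cl A := by
  intro n
  exact lam_mem A.toAddSubgroup x (one_mem A) n (fun j _ _ => h j) n le_rfl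

end subring

section pull

variable {V : Type u} [CommRing V] {R : Type v} [CommRing R] [LambdaOps R] (f : V →+* R)
  (hinj : Function.Injective f) (h : ∀ (x : V) (n : ℕ), ∃ y : V, f y = LambdaOps.lam n (f x))

/-- the lambda structure induced along an injective ring homomorphism whose image is stable -/
@[reducible] noncomputable def opsPull : LambdaOps V where
  lam n x := (h x n).choose
  lam_zero x := by
    apply hinj
    rw [(h x 0).choose_spec, LambdaOps.lam_zero, map_one]
  lam_one x := by
    apply hinj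
    rw [(h x 1).choose_spec, LambdaOps.lam_one]
  lam_add k x y := by
    apply hinj
    rw [(h (x + y) k).choose_spec, map_add, LambdaOps.lam_add, map_sum]
    refine Finset.sum_congr rfl fun i _ => ?_
    rw [map_mul, (h x i).choose_spec, (h y (k - i)).choose_spec]

lemma map_opsPull (n : ℕ) (x : V) :
    f ((opsPull f hinj h).lam n x) = LambdaOps.lam n (f x) := (h x n).choose_spec

end pull

section compare

variable {R : Type u} [CommRing R] [LambdaOps R] {B : Type v} [CommRing B] [LambdaOps B]
  (f : R →+* B)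

/-- `f` respects the lambda operations of index at most `b` of the elements of this subgroup -/
def G (b : ℕ) : AddSubgroup R where
  carrier := {x | ∀ k ≤ b, f (LambdaOps.lam k x) = LambdaOps.lam k (f x)}
  zero_mem' := by
    intro k _
    rw [map_zero, ← coeff_lamSeries, ← coeff_lamSeries, lamSeries_zero, lamSeries_zero,
      PowerSeries.coeff_one, PowerSeries.coeff_one]
    split_ifs <;> simp
  add_mem' := by
    intro x y hx hy k hk
    rw [LambdaOps.lam_add, map_add, LambdaOps.lam_add, map_sum]
    refine Finset.sum_congr rfl fun i hi => ?_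
    have hi := Finset.mem_range.1 hi
    rw [map_mul, hx i (by omega), hy (k - i) (by omega)]
  neg_mem' := by
    intro x hx n
    induction n using Nat.strong_induction_on with
    | _ n ih =>
      intro hn
      obtain _ | n := n
      · rw [LambdaOps.lam_zero, LambdaOps.lam_zero, map_one]
      · have e : ∀ {A : Type _} [CommRing A] [LambdaOps A] (x : A), LambdaOps.lam (n + 1) (-x) =
            -∑ k ∈ range (n + 1), LambdaOps.lam (k + 1) x * LambdaOps.lam (n + 1 - (k + 1)) (-x) := by
          intro A _ _ x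
          have h := LambdaOps.lam_add (n + 1) x (-x)
          rw [add_neg_cancel, ← coeff_lamSeries, lamSeries_zero, PowerSeries.coeff_one,
            if_neg (by omega), Finset.sum_range_succ', LambdaOps.lam_zero, one_mul] at h
          rw [Nat.sub_zero] at h
          linear_combination -h
        have e' : ∀ {A : Type _} [CommRing A] [LambdaOps A] (x : A), LambdaOps.lam (n + 1) (-x) =
            -∑ k ∈ range (n + 1), LambdaOps.lam (k + 1) x * LambdaOps.lam (n + 1 - (k + 1)) (-x) := by
          intro A _ _ x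
          have h := LambdaOps.lam_add (n + 1) x (-x)
          rw [add_neg_cancel, ← coeff_lamSeries, lamSeries_zero, PowerSeries.coeff_one,
            if_neg (by omega), Finset.sum_range_succ', LambdaOps.lam_zero, one_mul] at h
          rw [Nat.sub_zero] at h
          linear_combination -h
        rw [e x, map_neg, map_sum, map_neg, e' (f x)]
        congr 1
        refine Finset.sum_congr rfl fun i hi => ?_
        have hi := Finset.mem_range.1 hi
        rw [map_mul, hx (i + 1) (by omega), ih (n + 1 - (i + 1)) (by omega) (by omega), map_neg]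

variable {f}

lemma mem_G {b : ℕ} {x : R} :
    x ∈ G f b ↔ ∀ k ≤ b, f (LambdaOps.lam k x) = LambdaOps.lam k (f x) := Iff.rfl

lemma G_mul (hR : IsSpecial R) (hB : IsSpecial B)
    (hP : ∀ n : ℕ, ∃ P : MvPolynomial (Fin n ⊕ Fin n) ℤ, IsMulPoly n P) {b : ℕ} {x y : R}
    (hx : x ∈ G f b) (hy : y ∈ G f b) : x * y ∈ G f b := by
  intro n hn
  obtain ⟨P, hP⟩ := hP n
  rw [hR.lam_mul n P hP, map_mul, hB.lam_mul n P hP, MvPolynomial.map_aeval,
    MvPolynomial.aeval_def, MvPolynomial.coe_eval₂Hom]
  congr 1
  · exact Subsingleton.elim _ _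
  · funext k
    rcases k with k | k
    · simp only [Sum.elim_inl]
      exact hx _ (by omega)
    · simp only [Sum.elim_inr]
      exact hy _ (by omega)

lemma G_lam (hR : IsSpecial R) (hB : IsSpecial B)
    (hQ : ∀ i j : ℕ, ∃ Q : MvPolynomial (Fin (i * j)) ℤ, IsCompPoly i j Q) {b i : ℕ} {x : R}
    (hi : 0 < b) (hx : x ∈ G f (i * b)) : LambdaOps.lam i x ∈ G f b := by
  intro n hn
  obtain ⟨Q, hQ⟩ := hQ i n
  have hi' : f (LambdaOps.lam i x) = LambdaOps.lam i (f x) := hx i (Nat.le_mul_of_pos_right i hi)
  rw [hR.lam_lam i n Q hQ, hi', hB.lam_lam i n Q hQ, MvPolynomial.map_aeval,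
    MvPolynomial.aeval_def, MvPolynomial.coe_eval₂Hom]
  congr 1
  · exact Subsingleton.elim _ _
  · funext k
    refine hx _ ?_
    have h1 : i * n ≤ i * b := Nat.mul_le_mul_left i hn
    omega

lemma G_mono {b b' : ℕ} (h : b ≤ b') : G f b' ≤ G f b := fun _ hx k hk => hx k (hk.trans h)

lemma G_one (hR : IsSpecial R) (hB : IsSpecial B) (b : ℕ) : (1 : R) ∈ G f b := by
  intro n _
  rcases n with _ | _ | n
  · rw [LambdaOps.lam_zero, LambdaOps.lam_zero, map_one]
  · rw [LambdaOps.lam_one, LambdaOps.lam_one]
  · rw [hR.lam_one_eq_zero _ (by omega), map_one, hB.lam_one_eq_zero _ (by omega), map_zero]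

lemma G_gamma (hR : IsSpecial R) (hB : IsSpecial B)
    (hQ : ∀ i j : ℕ, ∃ Q : MvPolynomial (Fin (i * j)) ℤ, IsCompPoly i j Q) {b i : ℕ} {x : R}
    (hi : 0 < b) (hx : x ∈ G f (i * b)) : gamma i x ∈ G f b := by
  refine gamma_mem (G f b) i x (G_one hR hB b) (fun j _ hj => ?_)
  exact G_lam hR hB hQ hi (G_mono (Nat.mul_le_mul_right b hj) hx)

lemma map_gamma_of_mem_G {b : ℕ} {x : R} (hx : x ∈ G f b) {k : ℕ} (hk : k ≤ b) :
    f (gamma k x) = gamma k (f x) := map_gamma_of f b x hx k hk

lemma mem_G_of_gamma {b : ℕ} {x : R} (h : ∀ k ≤ b, f (gamma k x) = gamma k (f x)) :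
    x ∈ G f b := map_lam_of f b x h

end compare

end K537.Closure
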