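import Groth.Agent.LambdaRing.K537.Univ
import Mathlib.Algebra.MvPolynomial.Division

/-!
# Divisibility by the top gamma operation of a generator of finite gamma dimension
-/

set_option autoImplicit false
universe u v w

open Finset LambdaRing

namespace K537.Div

open Groth.Agent.Books.Lambda1 Groth.Agent.Books.Lambda2
open K537.Newton K537.BinSeries K537.MvLine K537.MvGamma K537.Weight K537.Filt K537.MultiEsymm
  K537.MvWeight K537.Closure K537.Univ MvPolynomial

section natural

variable {τ : Type v} {τ' : Type w} {K : Type u} [CommRing K] [BinomialRing K]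

attribute [local instance] opsMv

/-- algebra homomorphisms sending line monomials to line monomials are lambda-homomorphisms -/
lemma lam_comm_of (f : MvPolynomial τ K →ₐ[K] MvPolynomial τ' K)
    (h : ∀ m : τ →₀ ℕ, ∃ m' : τ' →₀ ℕ, f (L m) = L m') (n : ℕ) (x : MvPolynomial τ K) :
    f (LambdaOps.lam n x) = LambdaOps.lam n (f x) := by
  have key : x ∈ good f.toRingHom := by
    refine induction_L (P := fun x => x ∈ good f.toRingHom) (zero_mem _)
      (fun x y hx hy => add_mem hx hy) ?_ x
    intro c m
    obtain ⟨m', hm'⟩ := h m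
    have h1 : f.toRingHom (c • L m) = c • L m' := by
      change f (c • L m) = _
      rw [map_smul, hm']
    rw [mem_good_iff_series, h1, lamSeries_smul_L, lamSeries_smul_L]
    ext i : 1
    rw [PowerSeries.coeff_map, coeff_bs, coeff_bs]
    change f _ = _
    rw [map_mul, AlgHom.commutes, map_pow, hm']
  exact (mem_good _ _).1 key n

omit [BinomialRing K] in
lemma rename_L (σ : τ → τ') (m : τ →₀ ℕ) :
    rename σ (L m : MvPolynomial τ K) = L (m.mapDomain σ) := by
  induction m using Finsupp.induction_linear with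
  | zero => rw [L_zero, map_one, Finsupp.mapDomain_zero, L_zero]
  | add m m' h h' => rw [L_add, map_mul, h, h', Finsupp.mapDomain_add, L_add]
  | single i e =>
    rw [L_single, map_pow, map_add, map_one, rename_X, Finsupp.mapDomain_single, L_single]

lemma rename_lam (σ : τ → τ') (n : ℕ) (x : MvPolynomial τ K) :
    rename σ (LambdaOps.lam n x) = LambdaOps.lam n (rename σ x) :=
  lam_comm_of (rename σ) (fun m => ⟨_, rename_L σ m⟩) n x

variable [DecidableEq τ]

/-- the algebra homomorphism `X i ↦ 0` -/
noncomputable def ρ (K : Type u) [CommRing K] (i : τ) : MvPolynomial τ K →ₐ[K] MvPolynomial τ K :=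
  aeval fun k => if k = i then 0 else X k

omit [BinomialRing K] in
lemma ρ_monomial (i : τ) (m : τ →₀ ℕ) (c : K) :
    ρ K i (monomial m c) = if m i = 0 then monomial m c else 0 := by
  rw [ρ, aeval_monomial, algebraMap_eq]
  split_ifs with h
  · rw [monomial_eq]
    congr 1
    rw [Finsupp.prod, Finsupp.prod]
    refine Finset.prod_congr rfl fun k hk => ?_
    rw [if_neg]
    rintro rfl
    exact (Finsupp.mem_support_iff.1 hk) h
  · have h2 : (m.prod fun k e => (if k = i then 0 else X k : MvPolynomial τ K) ^ e) = 0 := by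
      rw [Finsupp.prod]
      refine Finset.prod_eq_zero (Finsupp.mem_support_iff.2 h) ?_
      rw [if_pos rfl, zero_pow h]
    rw [h2, mul_zero]

omit [BinomialRing K] in
lemma coeff_ρ (i : τ) (f : MvPolynomial τ K) (m : τ →₀ ℕ) (hm : m i = 0) :
    coeff m (ρ K i f) = coeff m f := by
  induction f using MvPolynomial.induction_on' with
  | monomial m' c =>
    rw [ρ_monomial]
    split_ifs with h
    · rfl
    · rw [coeff_zero, coeff_monomial, if_neg]
      rintro rfl
      exact h hm
  | add f f' h h' => rw [map_add, coeff_add, coeff_add, h, h']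

omit [BinomialRing K] in
lemma ρ_L (i : τ) (m : τ →₀ ℕ) : ρ K i (L m) = L (m.erase i) := by
  induction m using Finsupp.induction_linear with
  | zero => rw [L_zero, map_one, Finsupp.erase_zero, L_zero]
  | add m m' h h' => rw [L_add, map_mul, h, h', Finsupp.erase_add, L_add]
  | single k e =>
    rw [L_single, map_pow, map_add, map_one]
    by_cases hk : k = i
    · subst hk
      rw [Finsupp.erase_single, L_zero, ρ, aeval_X, if_pos rfl, add_zero, one_pow]
    · rw [Finsupp.erase_single_ne (Ne.symm hk), L_single, ρ, aeval_X, if_neg hk]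

lemma ρ_lam (i : τ) (n : ℕ) (x : MvPolynomial τ K) :
    ρ K i (LambdaOps.lam n x) = LambdaOps.lam n (ρ K i x) :=
  lam_comm_of (ρ K i) (fun m => ⟨_, ρ_L i m⟩) n x

end natural

section top

variable {K : Type u} [CommRing K] [BinomialRing K] (d : ℕ)

attribute [local instance] opsMv

omit [BinomialRing K] in
lemma esymm_top : esymm (Fin d) K d = ∏ i : Fin d, X i := by
  rw [esymm]
  have h := Finset.powersetCard_self (Finset.univ : Finset (Fin d))
  rw [Finset.card_univ, Fintype.card_fin] at h
  rw [h, Finset.sum_singleton]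

/-- the exponent with all entries one -/
noncomputable def ones : Fin d →₀ ℕ := Finsupp.equivFunOnFinite.symm fun _ => 1

omit [BinomialRing K] in
lemma esymm_top_eq_monomial : esymm (Fin d) K d = monomial (ones d) 1 := by
  rw [esymm_top, monomial_eq, map_one, one_mul, Finsupp.prod_fintype _ _ (fun i => pow_zero _)]
  refine Finset.prod_congr rfl fun i _ => ?_
  simp [ones]

omit [BinomialRing K] in
lemma esymm_top_cancel {f h : MvPolynomial (Fin d) K}
    (hfh : esymm (Fin d) K d * f = esymm (Fin d) K d * h) : f = h := by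
  rw [esymm_top_eq_monomial] at hfh
  ext m
  have h2 := congrArg (coeff (ones d + m)) hfh
  rwa [coeff_monomial_mul, coeff_monomial_mul, one_mul, one_mul] at h2

/-- the lambda operations of the product of the variables are divisible by it -/
lemma dvd_lam_top (j : ℕ) (hj : 1 ≤ j) :
    esymm (Fin d) K d ∣ LambdaOps.lam j (esymm (Fin d) K d) := by
  classical
  rw [esymm_top_eq_monomial, monomial_one_dvd_iff_modMonomial_eq_zero]
  ext m
  rw [coeff_zero]
  by_cases hm : ones d ≤ m
  · exact coeff_modMonomial_of_le _ hm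
  · rw [coeff_modMonomial_of_not_le _ hm]
    obtain ⟨i, hi⟩ : ∃ i, m i = 0 := by
      by_contra h
      push Not at h
      exact hm fun i => by simpa [ones, Nat.one_le_iff_ne_zero] using h i
    have h1 : ρ K i (monomial (ones d) 1) = 0 := by
      rw [ρ_monomial, if_neg]
      simp [ones]
    rw [← coeff_ρ i _ m hi, ρ_lam, h1, ← coeff_lamSeries, lamSeries_zero,
      PowerSeries.coeff_one, if_neg (by omega), coeff_zero]

/-- the quotient is a polynomial in the elementary symmetric polynomials -/
lemma exists_quotient (j : ℕ) (hj : 1 ≤ j) : ∃ h : MvPolynomial (Fin d) K,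
    LambdaOps.lam j (esymm (Fin d) K d) =
      esymm (Fin d) K d * aeval (fun i : Fin d => esymm (Fin d) K (i + 1)) h := by
  obtain ⟨q, hq⟩ := dvd_lam_top (K := K) d j hj
  have hsym : q.IsSymmetric := by
    intro σ
    apply esymm_top_cancel d
    have h1 := congrArg (rename σ) hq
    rw [rename_lam, map_mul, esymm_isSymmetric (Fin d) K d σ] at h1
    rw [← h1, hq]
  obtain ⟨h, hh⟩ := (esymmAlgHom_fin_bijective K d).2 ⟨q, hsym⟩
  refine ⟨h, ?_⟩
  rw [hq]
  congr 1
  have h2 := congrArg Subtype.val hh
  rw [esymmAlgHom_apply] at h2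
  exact h2.symm

end top

section univ

variable {S : Type v} (M : S → ℕ) (K : Type u) [CommRing K] [BinomialRing K]

attribute [local instance] opsMv

variable {M K} in
/-- the identity map to the universal ring -/
def mkUV (f : MvPolynomial (Idx M) K) : UV M K := f

omit [BinomialRing K] in
lemma ι_mkUV (f : MvPolynomial (Idx M) K) : ι M K (mkUV f) = iota M K f := rfl

omit [BinomialRing K] in
lemma iota_rename (s : S) (h : MvPolynomial (Fin (M s)) K) :
    iota M K (rename (Sigma.mk s) h) =
      rename (Sigma.mk s) (aeval (fun i : Fin (M s) => esymm (Fin (M s)) K (i + 1)) h) := by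
  induction h using MvPolynomial.induction_on with
  | C a => rw [rename_C, iota_C, aeval_C, algebraMap_eq, rename_C]
  | add p q hp hq => rw [map_add, map_add, map_add, map_add, hp, hq]
  | mul_X p i hp =>
    rw [map_mul, map_mul, map_mul, map_mul, hp, rename_X, iota_X, aeval_X, E]

/-- `g s (M s)` divides its lambda operations in the universal ring -/
theorem g_dvd_lam (s : S) (j : ℕ) (hj : 1 ≤ j) :
    (g M s (M s) : UV M K) ∣ LambdaOps.lam j (g M s (M s)) := by
  obtain ⟨h, hh⟩ := exists_quotient (K := K) (M s) j hj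
  refine ⟨mkUV (rename (Sigma.mk s) h), ?_⟩
  apply ι_injective M K
  rw [ι_lam, ι_g, map_mul, ι_g, E, ← rename_lam, hh, map_mul, ι_mkUV, iota_rename]

end univ

section ideal

variable {R : Type v} [CommRing R] [LambdaOps R]

/-- an ideal containing the positive lambda operations of `w` contains those of the multiples of `w` -/
lemma lam_mul_mem (hR : IsSpecial R) (I : Ideal R) (w : R)
    (hw : ∀ j, 1 ≤ j → LambdaOps.lam j w ∈ I) (f : R) (p : ℕ) (hp : 1 ≤ p) :
    LambdaOps.lam p (f * w) ∈ I := by
  obtain ⟨P, hP⟩ := hP p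
  rw [hR.lam_mul p P hP, ← MvPolynomial.support_sum_monomial_coeff P, map_sum]
  refine sum_mem fun m hm => ?_
  have h1 := hP.2 (MvPolynomial.mem_support_iff.1 hm)
  obtain ⟨k, hk⟩ : ∃ k : Fin p, m (Sum.inr k) ≠ 0 := by
    by_contra hcon
    push Not at hcon
    have h2 := congrArg Prod.snd h1
    rw [Finsupp.weight_apply, Finsupp.sum, Prod.snd_sum] at h2
    rw [Finset.sum_eq_zero] at h2
    · simp only at h2; omega
    · rintro (i | i) _
      · simp
      · simp [hcon i]
  rw [aeval_monomial]
  refine Ideal.mul_mem_left _ _ ?_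
  rw [Finsupp.prod, ← Finset.mul_prod_erase _ _ (Finsupp.mem_support_iff.2 hk)]
  refine Ideal.mul_mem_right _ _ ?_
  refine Ideal.pow_mem_of_mem _ ?_ _ (Nat.pos_of_ne_zero hk)
  exact hw _ (by omega)

lemma gamma_mem_of_lam (I : Ideal R) (x : R) (h : ∀ j, 1 ≤ j → LambdaOps.lam j x ∈ I) (p : ℕ)
    (hp : 1 ≤ p) : gamma p x ∈ I := by
  rw [gamma_eq p (by omega)]
  refine add_mem (h p hp) (sum_mem fun j hj => ?_)
  rcases Nat.eq_zero_or_pos j with h0 | h0
  · subst h0; simp
  · rw [nsmul_eq_mul]
    exact Ideal.mul_mem_left _ _ (h j h0)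

lemma dvd_lam_mul (hR : IsSpecial R) {w : R} (hw : ∀ j, 1 ≤ j → w ∣ LambdaOps.lam j w) (f : R)
    (p : ℕ) (hp : 1 ≤ p) : w ∣ LambdaOps.lam p (f * w) := by
  rw [← Ideal.mem_span_singleton]
  exact lam_mul_mem hR _ w (fun j hj => Ideal.mem_span_singleton.2 (hw j hj)) f p hp

lemma dvd_gamma_mul (hR : IsSpecial R) {w : R} (hw : ∀ j, 1 ≤ j → w ∣ LambdaOps.lam j w) (f : R)
    (p : ℕ) (hp : 1 ≤ p) : w ∣ gamma p (f * w) := by
  rw [← Ideal.mem_span_singleton]
  exact gamma_mem_of_lam _ _ (fun j hj => Ideal.mem_span_singleton.2 (dvd_lam_mul hR hw f j hj)) p hp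

end ideal

section weight

variable {S : Type v} {M : S → ℕ} {K : Type u} [CommRing K]

/-- cancelling a variable lowers the weight -/
lemma mem_W_of_g_mul {s : S} {d : ℕ} (hd : 1 ≤ d) (hM : M s = d) {k : ℕ} {f : UV M K}
    (h : g M s d * f ∈ W M K k) : f ∈ W M K (k - d) := by
  subst hM
  obtain ⟨i, hi⟩ : ∃ i : Fin (M s), M s = i + 1 := ⟨⟨M s - 1, by omega⟩, by simp; omega⟩
  have hg : (g M s (M s) : UV M K) = xv M ⟨s, i⟩ := by
    rw [← g_succ]
    congr 1
  rw [hg] at h
  intro m hm
  have h2 := h (Finsupp.single ⟨s, i⟩ 1 + m)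
  have h3 : coeff (Finsupp.single ⟨s, i⟩ 1 + m)
      ((X ⟨s, i⟩ : MvPolynomial (Idx M) K) * (show MvPolynomial (Idx M) K from f)) = coeff m f :=
    coeff_X_mul _ _ _
  have h4 := h2 (fun h0 => hm (h3.symm.trans h0))
  rw [map_add, Finsupp.weight_single, smul_eq_mul, one_mul] at h4
  have h5 : wI M ⟨s, i⟩ = M s := by
    rw [wI]; exact hi.symm
  omega

end weight

end K537.Div
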