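import Groth.Agent.Books.Lambda2
import Groth.Prelude.Def_LambdaSp

/-!
# Multiplicative filtrations and the gamma operations
-/

set_option autoImplicit false
universe u v

open Finset LambdaRing

namespace K537.Filt

open Groth.Agent.Books.Lambda1 Groth.Agent.Books.Lambda2

variable {A : Type u} [CommRing A] [LambdaOps A]

/-- a decreasing multiplicative filtration by additive subgroups, with `1` in the zeroth term -/
structure IsMulFilt (W : ℕ → AddSubgroup A) : Prop where
  one_mem : (1 : A) ∈ W 0
  anti : ∀ {m n : ℕ}, m ≤ n → W n ≤ W m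
  mul_mem : ∀ {m n : ℕ} {a b : A}, a ∈ W m → b ∈ W n → a * b ∈ W (m + n)

/-- the elements all of whose gamma operations lie deep in the filtration -/
def GammaIn (W : ℕ → AddSubgroup A) (x : A) : Prop := ∀ k : ℕ, gamma k x ∈ W k

variable {W : ℕ → AddSubgroup A}

lemma gamma_zero_arg (k : ℕ) (hk : k ≠ 0) : gamma k (0 : A) = 0 := by
  rw [← coeff_gammaSeries, gammaSeries_zero, PowerSeries.coeff_one, if_neg hk]

lemma GammaIn.zero (hW : IsMulFilt W) : GammaIn W (0 : A) := by
  intro k
  by_cases hk : k = 0
  · subst hk
    rw [gamma_zero]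
    exact hW.one_mem
  · rw [gamma_zero_arg k hk]
    exact zero_mem _

lemma GammaIn.add (hW : IsMulFilt W) {x y : A} (hx : GammaIn W x) (hy : GammaIn W y) :
    GammaIn W (x + y) := by
  intro k
  rw [gamma_add]
  refine sum_mem fun i hi => ?_
  have hik : i + (k - i) = k := by
    have := Finset.mem_range.1 hi
    omega
  have h := hW.mul_mem (hx i) (hy (k - i))
  rwa [hik] at h

lemma gamma_neg_eq (x : A) (k : ℕ) :
    gamma (k + 1) (-x) = -∑ i ∈ range (k + 1), gamma (i + 1) x * gamma (k - i) (-x) := by
  have h := gamma_add (k + 1) x (-x)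
  rw [add_neg_cancel, gamma_zero_arg (k + 1) (by omega), Finset.sum_range_succ'] at h
  simp only [gamma_zero, Nat.sub_zero, one_mul] at h
  have h2 : ∀ i ∈ range (k + 1), gamma (i + 1) x * gamma (k + 1 - (i + 1)) (-x) =
      gamma (i + 1) x * gamma (k - i) (-x) := by
    intro i _
    congr 2
    omega
  rw [Finset.sum_congr rfl h2] at h
  linear_combination -h

lemma GammaIn.neg (hW : IsMulFilt W) {x : A} (hx : GammaIn W x) : GammaIn W (-x) := by
  intro k
  induction k using Nat.strong_induction_on with
  | _ k ih =>
    obtain _ | k := k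
    · rw [gamma_zero]; exact hW.one_mem
    · rw [gamma_neg_eq]
      refine neg_mem (sum_mem fun i hi => ?_)
      have hik : i + 1 + (k - i) = k + 1 := by
        have := Finset.mem_range.1 hi
        omega
      have h := hW.mul_mem (hx (i + 1)) (ih (k - i) (by omega))
      rwa [hik] at h

/-- the elements with deep gamma operations form an additive subgroup -/
def gammaSub (hW : IsMulFilt W) : AddSubgroup A where
  carrier := {x | GammaIn W x}
  zero_mem' := GammaIn.zero hW
  add_mem' := fun hx hy => GammaIn.add hW hx hy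
  neg_mem' := fun hx => GammaIn.neg hW hx

lemma mem_gammaSub {hW : IsMulFilt W} {x : A} : x ∈ gammaSub hW ↔ GammaIn W x := Iff.rfl

lemma list_prod_mem (hW : IsMulFilt W) (l : List (ℕ × A)) (hl : ∀ p ∈ l, gamma p.1 p.2 ∈ W p.1) :
    (l.map fun p => gamma p.1 p.2).prod ∈ W (l.map Prod.fst).sum := by
  induction l with
  | nil => simpa using hW.one_mem
  | cons p l ih =>
    simp only [List.map_cons, List.prod_cons, List.sum_cons]
    exact hW.mul_mem (hl p (by simp)) (ih fun q hq => hl q (by simp [hq]))

end K537.Filt
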