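import Groth.Agent.LambdaRing.K537.Transfer

/-!
# The gamma filtration
-/

set_option autoImplicit false
universe u v w

open Finset LambdaRing

namespace K537.GammaFil

open Groth.Agent.Books.Lambda1 Groth.Agent.Books.Lambda2 K537.Filt K537.Transfer

section general

variable {K : Type u} [CommRing K] {A : Type v} [CommRing A] [LambdaOps A] (ε : A →+* K)

/-- generators of the gamma filtration -/
def gens (n : ℕ) : Set A :=
  {y | ∃ l : List (ℕ × A), (∀ p ∈ l, ε p.2 = 0) ∧ n ≤ (l.map Prod.fst).sum ∧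
    y = (l.map fun p => gamma p.1 p.2).prod}

lemma gammaFil_eq (n : ℕ) : gammaFil ε n = Ideal.span (gens ε n) := rfl

/-- the gamma filtration as additive subgroups -/
noncomputable def GF (n : ℕ) : AddSubgroup A := (gammaFil ε n).toAddSubgroup

lemma mem_GF {n : ℕ} {x : A} : x ∈ GF ε n ↔ x ∈ gammaFil ε n := Iff.rfl

lemma gammaFil_zero : gammaFil ε 0 = ⊤ := by
  rw [Ideal.eq_top_iff_one]
  exact Ideal.subset_span ⟨[], by simp, by simp, by simp⟩

lemma gammaFil_anti {m n : ℕ} (h : m ≤ n) : gammaFil ε n ≤ gammaFil ε m := by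
  refine Ideal.span_mono ?_
  rintro y ⟨l, h1, h2, h3⟩
  exact ⟨l, h1, h.trans h2, h3⟩

lemma gammaFil_mul {m n : ℕ} {a b : A} (ha : a ∈ gammaFil ε m) (hb : b ∈ gammaFil ε n) :
    a * b ∈ gammaFil ε (m + n) := by
  have h : gammaFil ε m * gammaFil ε n ≤ gammaFil ε (m + n) := by
    rw [gammaFil_eq, gammaFil_eq, Ideal.span_mul_span']
    refine Ideal.span_mono ?_
    rintro _ ⟨x, ⟨l, h1, h2, rfl⟩, y, ⟨l', h1', h2', rfl⟩, rfl⟩
    refine ⟨l ++ l', ?_, ?_, ?_⟩
    · intro p hp
      rcases List.mem_append.1 hp with h | h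
      · exact h1 p h
      · exact h1' p h
    · rw [List.map_append, List.sum_append]
      omega
    · simp [List.map_append, List.prod_append]
  exact h (Ideal.mul_mem_mul ha hb)

lemma GF_isMulFilt : IsMulFilt (GF ε) where
  one_mem := by rw [mem_GF, gammaFil_zero]; trivial
  anti := fun h => gammaFil_anti ε h
  mul_mem := fun ha hb => gammaFil_mul ε ha hb

lemma gammaIn_GF {x : A} (hx : ε x = 0) : GammaIn (GF ε) x := by
  intro k
  refine Ideal.subset_span ⟨[(k, x)], ?_, ?_, ?_⟩
  · simpa using hx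
  · simp
  · simp

/-- the gamma filtration is contained in every multiplicative filtration by ideals for which all the
elements of augmentation zero have deep gamma operations -/
lemma gammaFil_le {J : ℕ → Ideal A} (hJ : IsMulFilt fun n => (J n).toAddSubgroup)
    (h : ∀ z : A, ε z = 0 → GammaIn (fun n => (J n).toAddSubgroup) z) (n : ℕ) :
    gammaFil ε n ≤ J n := by
  refine Ideal.span_le.2 ?_
  rintro y ⟨l, hl, hn, rfl⟩
  exact hJ.anti hn (list_prod_mem hJ l fun p hp => h p.2 (hl p hp) p.1)

end general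

section aug

variable {K : Type u} [CommRing K] [LambdaOps K] [BinomialRing K]
  {A : Type v} [CommRing A] [LambdaOps A] [Algebra K A]

lemma lam_algebraMap_of (hKb : IsBinomial K) (h : IsLambdaAlg K A) (n : ℕ) (c : K) :
    LambdaOps.lam n (algebraMap K A c) = algebraMap K A (Ring.choose c n) := by
  rw [← h n c, hKb n c]

omit [BinomialRing K] in
/-- the augmentation of gamma operations of an element of augmentation zero -/
lemma ε_gamma {ε : A →ₐ[K] K} (hε : IsAugLambdaAlg K A ε) {x : A} (hx : ε x = 0) {i : ℕ}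
    (hi : 1 ≤ i) : ε (gamma i x) = 0 := by
  have h := K537.Closure.map_gamma_of (ε : A →+* K) i x (fun j _ => hε.map_lam j x) i le_rfl
  have h2 : ε (gamma i x) = gamma i (ε x) := h
  rw [h2, hx, K537.Filt.gamma_zero_arg i (by omega)]

end aug

end K537.GammaFil
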