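import Mathlib.RingTheory.MvPolynomial.Symmetric.FundamentalTheorem
import Mathlib.Algebra.MvPolynomial.Equiv
import Mathlib.Data.Fintype.Option

/-!
# The elementary symmetric polynomials of several disjoint groups of variables are algebraically
independent
-/

set_option autoImplicit false
universe u v

open Finset MvPolynomial

namespace K537.MultiEsymm

/-- the index type of `M s` variables for each `s` -/
abbrev Idx {S : Type v} (M : S → ℕ) : Type v := Σ s : S, Fin (M s)

section defs

variable {S : Type v} (M : S → ℕ) (K : Type u) [CommRing K]

/-- the `k`-th elementary symmetric polynomial of the group of variables number `s` -/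
noncomputable def E (s : S) (k : ℕ) : MvPolynomial (Idx M) K :=
  rename (Sigma.mk s) (esymm (Fin (M s)) K k)

/-- the map sending the variable `(s, i)` to the `(i+1)`-st elementary symmetric polynomial of the
group `s` -/
noncomputable def iota : MvPolynomial (Idx M) K →ₐ[K] MvPolynomial (Idx M) K :=
  aeval fun p => E M K p.1 (p.2 + 1)

lemma iota_X (p : Idx M) : iota M K (X p) = E M K p.1 (p.2 + 1) := by
  rw [iota, aeval_X]

lemma iota_C (a : K) : iota M K (C a) = C a := (iota M K).commutes a

end defs

lemma esymm_injective (n : ℕ) (R : Type u) [CommRing R] :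
    Function.Injective (aeval (R := R) fun i : Fin n => esymm (Fin n) R (i + 1)) := by
  have h := esymmAlgHom_fin_injective (n := n) (m := n) R le_rfl
  intro p q hpq
  apply h
  apply Subtype.ext
  rw [esymmAlgHom_apply, esymmAlgHom_apply]
  exact hpq

section equiv

variable {S S' : Type v} (e : S ≃ S') (M : S' → ℕ) (K : Type u) [CommRing K]

lemma iota_equiv (f : MvPolynomial (Idx (fun s => M (e s))) K) :
    iota M K (rename (Sigma.map e fun _ => id) f) =
      rename (Sigma.map e fun _ => id) (iota (fun s => M (e s)) K f) := by
  induction f using MvPolynomial.induction_on with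
  | C a => rw [rename_C, iota_C, iota_C, rename_C]
  | add p q hp hq => rw [map_add, map_add, map_add, map_add, hp, hq]
  | mul_X p i hp =>
    rw [map_mul, map_mul, map_mul, map_mul, hp, rename_X, iota_X, iota_X, E, E, rename_rename]
    rfl

lemma injective_of_equiv (h : Function.Injective (iota (fun s => M (e s)) K)) :
    Function.Injective (iota M K) := by
  have hbij : Function.Bijective
      (Sigma.map e fun _ => id : Idx (fun s => M (e s)) → Idx M) := by
    constructor
    · rintro ⟨a, i⟩ ⟨b, j⟩ hab
      rw [Sigma.map, Sigma.map] at hab
      have h1 : e a = e b := congrArg Sigma.fst hab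
      have h2 : a = b := e.injective h1
      subst h2
      simpa using hab
    · rintro ⟨b, j⟩
      obtain ⟨a, rfl⟩ := e.surjective b
      exact ⟨⟨a, j⟩, rfl⟩
  have hinj := rename_injective (R := K) _ hbij.1
  have hsurj := rename_surjective (R := K) _ hbij.2
  intro f g hfg
  obtain ⟨f, rfl⟩ := hsurj f
  obtain ⟨g, rfl⟩ := hsurj g
  rw [iota_equiv, iota_equiv] at hfg
  rw [h (hinj hfg)]

end equiv

section option

variable {S : Type v} (M : Option S → ℕ) (K : Type u) [CommRing K]

/-- the splitting of the index type of `Option S` -/
def optEquiv : Idx M ≃ Fin (M none) ⊕ Idx (fun s : S => M (some s)) where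
  toFun p := match p with
    | ⟨none, i⟩ => Sum.inl i
    | ⟨some s, i⟩ => Sum.inr ⟨s, i⟩
  invFun q := match q with
    | Sum.inl i => ⟨none, i⟩
    | Sum.inr ⟨s, i⟩ => ⟨some s, i⟩
  left_inv p := by
    obtain ⟨_ | s, i⟩ := p <;> rfl
  right_inv q := by
    obtain i | ⟨s, i⟩ := q <;> rfl

/-- the corresponding isomorphism of polynomial rings -/
noncomputable def optAlg : MvPolynomial (Idx M) K ≃ₐ[K]
    MvPolynomial (Fin (M none)) (MvPolynomial (Idx (fun s : S => M (some s))) K) :=
  (renameEquiv K (optEquiv M)).trans (sumAlgEquiv K _ _)

lemma optAlg_C (a : K) : optAlg M K (C a) = C (C a) := by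
  rw [← algebraMap_eq, AlgEquiv.commutes]; rfl

lemma optAlg_none (f : MvPolynomial (Fin (M none)) K) :
    optAlg M K (rename (Sigma.mk none) f) = MvPolynomial.map C f := by
  induction f using MvPolynomial.induction_on with
  | C a => rw [rename_C, optAlg_C, map_C]
  | add p q hp hq => rw [map_add, map_add, map_add, hp, hq]
  | mul_X p i hp =>
    rw [map_mul, map_mul, map_mul, hp, rename_X, map_X]
    congr 1
    simp [optAlg, optEquiv]

lemma optAlg_some (s : S) (f : MvPolynomial (Fin (M (some s))) K) :
    optAlg M K (rename (Sigma.mk (some s)) f) = C (rename (Sigma.mk s) f) := by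
  induction f using MvPolynomial.induction_on with
  | C a => rw [rename_C, optAlg_C, rename_C]
  | add p q hp hq => rw [map_add, map_add, hp, hq, map_add, map_add]
  | mul_X p i hp =>
    rw [map_mul, map_mul, hp, rename_X, map_mul, map_mul, rename_X]
    congr 1
    simp [optAlg, optEquiv]

lemma iota_option (f : MvPolynomial (Idx M) K) :
    optAlg M K (iota M K f) =
      aeval (fun i : Fin (M none) =>
        esymm (Fin (M none)) (MvPolynomial (Idx (fun s : S => M (some s))) K) (i + 1))
        (MvPolynomial.map (iota (fun s : S => M (some s)) K).toRingHom (optAlg M K f)) := by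
  induction f using MvPolynomial.induction_on with
  | C a =>
    rw [iota_C, optAlg_C, map_C, aeval_C]
    congr 1
    exact (iota_C (fun s : S => M (some s)) K a).symm
  | add p q hp hq => rw [map_add, map_add, hp, hq, map_add, map_add, map_add]
  | mul_X p i hp =>
    rw [map_mul, map_mul, hp, map_mul, map_mul, map_mul]
    congr 1
    obtain ⟨_ | s, i⟩ := i
    · have hX : optAlg M K (X (⟨none, i⟩ : Idx M)) = X i := by simp [optAlg, optEquiv]
      rw [iota_X, E, optAlg_none, map_esymm, hX, map_X, aeval_X]
    · have hX : optAlg M K (X (⟨some s, i⟩ : Idx M)) = C (X ⟨s, i⟩) := by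
        simp [optAlg, optEquiv]
      rw [iota_X, E, optAlg_some, hX, map_C, aeval_C]
      congr 1
      exact (iota_X (fun s : S => M (some s)) K ⟨s, i⟩).symm

lemma injective_option (h : Function.Injective (iota (fun s : S => M (some s)) K)) :
    Function.Injective (iota M K) := by
  intro f g hfg
  have h1 := congrArg (optAlg M K) hfg
  rw [iota_option, iota_option] at h1
  exact (optAlg M K).injective (MvPolynomial.map_injective _ h (esymm_injective _ _ h1))

end option

/-- injectivity for finite index types -/
lemma iota_injective_of_finite (S : Type v) [Finite S] (M : S → ℕ) (K : Type u) [CommRing K] :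
    Function.Injective (iota M K) := by
  suffices h : ∀ (M : S → ℕ), Function.Injective (iota M K) from h M
  clear M
  induction S using Finite.induction_empty_option with
  | of_equiv e ih =>
    intro M
    exact injective_of_equiv e M K (ih (fun s => M (e s)))
  | h_empty =>
    intro M
    have h : (iota M K) = AlgHom.id K _ := by
      apply MvPolynomial.algHom_ext
      rintro ⟨⟨⟩, _⟩
    rw [h]
    exact Function.injective_id
  | h_option ih =>
    intro M
    exact injective_option M K (ih (fun s => M (some s)))

section general

variable {S : Type v} (M : S → ℕ) (K : Type u) [CommRing K] (F : Set S)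

lemma iota_sub (f : MvPolynomial (Idx (fun s : F => M s)) K) :
    iota M K (rename (Sigma.map Subtype.val fun _ => id) f) =
      rename (Sigma.map Subtype.val fun _ => id) (iota (fun s : F => M s) K f) := by
  induction f using MvPolynomial.induction_on with
  | C a => rw [rename_C, iota_C, iota_C, rename_C]
  | add p q hp hq => rw [map_add, map_add, map_add, map_add, hp, hq]
  | mul_X p i hp =>
    rw [map_mul, map_mul, map_mul, map_mul, hp, rename_X, iota_X, iota_X, E, E, rename_rename]
    rfl

/-- the elementary symmetric polynomials of several groups of variables are algebraically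
independent -/
theorem iota_injective : Function.Injective (iota M K) := by
  classical
  rw [injective_iff_map_eq_zero]
  intro f hf
  let F : Set S := Sigma.fst '' (f.vars : Set (Idx M))
  have : Finite F := (f.vars.finite_toSet.image _).to_subtype
  have hinj : Function.Injective
      (Sigma.map Subtype.val fun _ => id : Idx (fun s : F => M s) → Idx M) := by
    rintro ⟨a, i⟩ ⟨b, j⟩ hab
    rw [Sigma.map, Sigma.map] at hab
    have h1 : a.1 = b.1 := congrArg Sigma.fst hab
    have h2 : a = b := Subtype.ext h1
    subst h2
    simpa using hab
  obtain ⟨g, hg⟩ := exists_rename_eq_of_vars_subset_range f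
    (Sigma.map Subtype.val fun _ => id : Idx (fun s : F => M s) → Idx M) hinj (by
      rintro ⟨s, i⟩ hsi
      exact ⟨⟨⟨s, ⟨⟨s, i⟩, hsi, rfl⟩⟩, i⟩, rfl⟩)
  rw [← hg, iota_sub] at hf
  have h1 := rename_injective (R := K) _ hinj (hf.trans (map_zero _).symm)
  have h2 := iota_injective_of_finite F (fun s : F => M s) K (h1.trans (map_zero _).symm)
  rw [← hg, h2, map_zero]

end general

end K537.MultiEsymm
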