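import Groth.Agent.LambdaRing.K537.MvLine
import Groth.Agent.LambdaRing.K537.MultiEsymm
import Groth.Agent.LambdaRing.K536.Basic

/-!
# Gamma operations on `MvPolynomial τ K` with its line element structure
-/

set_option autoImplicit false
universe u v w

open Finset LambdaRing

namespace K537.MvGamma

open Groth.Agent.Books.Lambda1 Groth.Agent.Books.Lambda2 K536.Basic
open K537.Newton K537.BinSeries K537.MvLine K537.MultiEsymm MvPolynomial

section general

variable {R : Type v} [CommRing R] [IsAddTorsionFree R]

/-- in a torsion-free ring, a series with constant term one is determined by its logarithmic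
derivative -/
lemma eq_of_derivative {f g D : PowerSeries R} (hf : PowerSeries.constantCoeff f = 1)
    (hg : PowerSeries.constantCoeff g = 1) (hf' : PowerSeries.derivative R f = f * D)
    (hg' : PowerSeries.derivative R g = g * D) : f = g := by
  ext n
  induction n using Nat.strong_induction_on with
  | _ n ih =>
    obtain _ | n := n
    · rw [PowerSeries.coeff_zero_eq_constantCoeff_apply,
        PowerSeries.coeff_zero_eq_constantCoeff_apply, hf, hg]
    · have h1 := congrArg (PowerSeries.coeff n) hf'
      have h2 := congrArg (PowerSeries.coeff n) hg'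
      rw [PowerSeries.coeff_derivative, PowerSeries.coeff_mul,
        Finset.Nat.sum_antidiagonal_eq_sum_range_succ_mk] at h1 h2
      have h3 : PowerSeries.coeff (n + 1) f * ((n : R) + 1) =
          PowerSeries.coeff (n + 1) g * ((n : R) + 1) := by
        rw [h1, h2]
        refine Finset.sum_congr rfl fun i hi => ?_
        rw [ih i (by simpa using hi)]
      have h4 : (n + 1) • PowerSeries.coeff (n + 1) f = (n + 1) • PowerSeries.coeff (n + 1) g := by
        rw [nsmul_eq_mul, nsmul_eq_mul]
        push_cast
        rw [mul_comm, h3, mul_comm]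
      exact nsmul_right_injective (Nat.succ_ne_zero n) h4

end general

section gamma

variable {R : Type v} [CommRing R] [LambdaOps R]

/-- the logarithmic derivative of the generating series of the gamma operations -/
noncomputable def dgamma (x : R) : PowerSeries R :=
  (logDerivSeries x).subst (T R) * PowerSeries.derivative R (T R)

lemma derivative_gammaSeries (x : R) :
    PowerSeries.derivative R (gammaSeries x) = gammaSeries x * dgamma x := by
  rw [gammaSeries_eq_subst, PowerSeries.derivative_subst hasSubst_T, derivative_lamSeries,
    PowerSeries.subst_mul hasSubst_T, dgamma]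
  ring

omit [LambdaOps R] in
lemma one_sub_sq_mul_derivative_T :
    (1 - PowerSeries.X) ^ 2 * PowerSeries.derivative R (T R) = 1 := by
  have h := congrArg (PowerSeries.derivative R) (T_mul_one_sub (K := R))
  rw [Derivation.leibniz, map_sub, PowerSeries.derivative_X, PowerSeries.derivative_one,
    zero_sub] at h
  simp only [smul_eq_mul] at h
  linear_combination (1 - PowerSeries.X) * h + T_mul_one_sub (K := R)

end gamma

section dbs

variable {K : Type u} [CommRing K] [BinomialRing K] {R : Type v} [CommRing R] [Algebra K R]

omit [BinomialRing K] in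
lemma linear_mul_dbs (c : K) (u : R) :
    (1 + PowerSeries.C u * PowerSeries.X) * dbs c u = PowerSeries.C (algebraMap K R c * u) := by
  ext n
  rw [add_mul, one_mul, map_add, mul_assoc, PowerSeries.coeff_C_mul, PowerSeries.coeff_C]
  cases n with
  | zero => simp [dbs]
  | succ n =>
    rw [PowerSeries.coeff_succ_X_mul, dbs, PowerSeries.coeff_mk, PowerSeries.coeff_mk,
      if_neg (by omega)]
    ring

lemma subst_C (a : R) : (PowerSeries.C a).subst (T R) = PowerSeries.C a := by
  rw [PowerSeries.subst_C]; rfl

lemma subst_one : (1 : PowerSeries R).subst (T R) = 1 := by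
  rw [← PowerSeries.coe_substAlgHom hasSubst_T, map_one]

omit [BinomialRing K] in
/-- `(1 + u t)^c` and the substitution `t ↦ t / (1 - t)` -/
lemma subst_dbs (c : K) (u : R) :
    (1 + PowerSeries.C (u - 1) * PowerSeries.X) * (dbs c u).subst (T R) =
      PowerSeries.C (algebraMap K R c * u) * (1 - PowerSeries.X) := by
  have h := congrArg (fun f => PowerSeries.subst (T R) f) (linear_mul_dbs c u)
  rw [PowerSeries.subst_mul hasSubst_T, PowerSeries.subst_add hasSubst_T,
    PowerSeries.subst_mul hasSubst_T, PowerSeries.subst_X hasSubst_T, subst_one, subst_C,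
    subst_C] at h
  have h2 := T_mul_one_sub (K := R)
  rw [map_sub, map_one]
  linear_combination (1 - PowerSeries.X) * h - PowerSeries.C u * (dbs c u).subst (T R) * h2

end dbs

section line

variable {R : Type v} [CommRing R] [LambdaOps R] [IsAddTorsionFree R]
variable {K : Type u} [CommRing K] [BinomialRing K] [Algebra K R]

/-- the gamma operations of `c (u - 1)` for `u` a line element -/
lemma gammaSeries_smul_sub_one (c : K) (u : R) (h1 : lamSeries (c • u) = bs c u)
    (h2 : lamSeries ((-c) • (1 : R)) = bs (-c) (1 : R)) :
    gammaSeries (c • (u - 1)) = bs c (u - 1) := by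
  have hx : c • (u - 1) = c • u + (-c) • (1 : R) := by
    rw [smul_sub, neg_smul, sub_eq_add_neg]
  have hD : logDerivSeries (c • (u - 1)) = dbs c u + dbs (-c) (1 : R) := by
    rw [hx, logDerivSeries_add]
    congr 1
    · apply logDerivSeries_unique
      rw [h1, derivative_bs]
    · apply logDerivSeries_unique
      rw [h2, derivative_bs]
  apply eq_of_derivative (D := dbs c (u - 1)) (constantCoeff_gammaSeries _) (constantCoeff_bs _ _)
  · rw [derivative_gammaSeries]
    congr 1
    have hunit : IsUnit (1 + PowerSeries.C (u - 1) * PowerSeries.X : PowerSeries R) := by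
      rw [PowerSeries.isUnit_iff_constantCoeff]
      simp
    apply hunit.mul_left_cancel
    rw [linear_mul_dbs, dgamma, hD, PowerSeries.subst_add hasSubst_T]
    have e1 := subst_dbs c u
    have e2 := subst_dbs (-c) (1 : R)
    rw [sub_self, map_zero, zero_mul, add_zero, one_mul, mul_one, map_neg, map_neg] at e2
    have e3 := one_sub_sq_mul_derivative_T (R := R)
    rw [e2]
    simp only [map_mul, map_sub, map_one] at e1 ⊢
    linear_combination PowerSeries.derivative R (T R) * e1 +
      PowerSeries.C (algebraMap K R c) * (PowerSeries.C u - 1) * e3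
  · exact derivative_bs _ _

end line

section mv

variable {τ : Type w} {K : Type u} [CommRing K] [BinomialRing K]

attribute [local instance] opsMv

lemma rankOne_L (m : τ →₀ ℕ) : RankOne (L m : MvPolynomial τ K) := by
  intro j hj
  rw [← coeff_lamSeries, lamSeries_L, map_add, PowerSeries.coeff_one, if_neg (by omega),
    PowerSeries.coeff_C_mul, PowerSeries.coeff_X, if_neg (by omega), mul_zero, add_zero]

lemma rankOne_one : RankOne (1 : MvPolynomial τ K) := by
  rw [← L_zero]
  exact rankOne_L 0

lemma rankOne_one_add_X (i : τ) : RankOne (1 + X i : MvPolynomial τ K) := by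
  have h := rankOne_L (K := K) (Finsupp.single i 1)
  rwa [L_single, pow_one] at h

theorem torsionFree_mv : IsAddTorsionFree (MvPolynomial τ K) := by
  have : IsAddTorsionFree K := BinomialRing.toIsAddTorsionFree
  refine ⟨fun n hn f g hfg => ?_⟩
  ext m
  have h := congrArg (coeff m) hfg
  simp only [coeff_smul] at h
  exact nsmul_right_injective hn h

attribute [local instance] torsionFree_mv

/-- the gamma operations of `c (L - 1)` -/
lemma gamma_smul_L_sub_one (c : K) (m : τ →₀ ℕ) (k : ℕ) :
    gamma k (c • (L m - 1) : MvPolynomial τ K) = Ring.choose c k • (L m - 1) ^ k := by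
  rw [← coeff_gammaSeries, gammaSeries_smul_sub_one c (L m) (lamSeries_smul_L c m), coeff_bs,
    Algebra.smul_def]
  have h := lamSeries_smul_L (-c) (0 : τ →₀ ℕ)
  rwa [L_zero] at h

/-- the gamma operations of the sum of the variables of a group -/
lemma gamma_sum_X {S : Type v} (M : S → ℕ) (s : S) (k : ℕ) :
    gamma k (∑ j : Fin (M s), X (⟨s, j⟩ : Idx M) : MvPolynomial (Idx M) K) = E M K s k := by
  have h : (∑ j : Fin (M s), X (⟨s, j⟩ : Idx M) : MvPolynomial (Idx M) K) =
      ∑ j : Fin (M s), ((1 + X (⟨s, j⟩ : Idx M)) - 1) :=
    Finset.sum_congr rfl fun j _ => by ring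
  rw [h, gamma_sum_rankOne rankOne_one _ _ (fun j _ => rankOne_one_add_X _), E, esymm, map_sum]
  refine Finset.sum_congr rfl fun t _ => ?_
  rw [map_prod]
  refine Finset.prod_congr rfl fun i _ => ?_
  rw [rename_X]
  ring

end mv

end K537.MvGamma
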