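import Groth.Agent.LambdaRing.K537.BinSeries
import Mathlib.RingTheory.MvPolynomial.Basic

/-!
# The lambda structure on `MvPolynomial τ K`, `K` binomial, in which the `1 + X i` are line elements
-/

set_option autoImplicit false
universe u v w

open Finset LambdaRing

namespace K537.MvLine

open Groth.Agent.Books.Lambda1 K537.Newton K537.BinSeries MvPolynomial

section shift

variable (τ : Type w) (K : Type u) [CommRing K]

/-- the automorphism `X i ↦ 1 + X i` -/
noncomputable def sh : MvPolynomial τ K ≃ₐ[K] MvPolynomial τ K :=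
  AlgEquiv.ofAlgHom (aeval fun i => 1 + X i) (aeval fun i => X i - 1)
    (by apply MvPolynomial.algHom_ext; intro i; simp)
    (by apply MvPolynomial.algHom_ext; intro i; simp)

variable {τ K}

lemma sh_X (i : τ) : sh τ K (X i) = 1 + X i := by
  simp [sh]

lemma sh_symm_X (i : τ) : (sh τ K).symm (X i) = X i - 1 := by
  simp [sh]

/-- the line monomials `∏ (1 + X i)^(m i)` -/
noncomputable def L (m : τ →₀ ℕ) : MvPolynomial τ K := sh τ K (monomial m 1)

lemma L_eq_prod (m : τ →₀ ℕ) : (L m : MvPolynomial τ K) = m.prod fun i e => (1 + X i) ^ e := by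
  rw [L, monomial_eq, map_one, one_mul, Finsupp.prod, Finsupp.prod, map_prod]
  refine Finset.prod_congr rfl fun i _ => ?_
  rw [map_pow, sh_X]

lemma L_zero : (L 0 : MvPolynomial τ K) = 1 := by
  rw [L, show monomial (0 : τ →₀ ℕ) (1 : K) = 1 from rfl, map_one]

lemma L_add (m m' : τ →₀ ℕ) : (L (m + m') : MvPolynomial τ K) = L m * L m' := by
  rw [L, L, L, ← map_mul, monomial_mul, one_mul]

lemma L_nsmul (k : ℕ) (m : τ →₀ ℕ) : (L (k • m) : MvPolynomial τ K) = L m ^ k := by
  rw [L, L, ← map_pow, monomial_pow, one_pow]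

lemma L_single (i : τ) (e : ℕ) : (L (Finsupp.single i e) : MvPolynomial τ K) = (1 + X i) ^ e := by
  rw [L_eq_prod, Finsupp.prod_single_index]
  exact pow_zero _

variable (τ K) in
/-- the line monomials as a basis -/
noncomputable def lb : Module.Basis (τ →₀ ℕ) K (MvPolynomial τ K) :=
  (MvPolynomial.basisMonomials τ K).map (sh τ K).toLinearEquiv

lemma lb_apply (m : τ →₀ ℕ) : lb τ K m = L m := by
  simp [lb, L]

/-- the ring endomorphism `1 + X i ↦ (1 + X i)^k` -/
noncomputable def χ (k : ℕ) : MvPolynomial τ K →ₐ[K] MvPolynomial τ K :=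
  aeval fun i => (1 + X i) ^ k - 1

lemma χ_X (k : ℕ) (i : τ) : χ (K := K) k (X i) = (1 + X i) ^ k - 1 := by
  simp [χ]

lemma χ_L (k : ℕ) (m : τ →₀ ℕ) : χ (K := K) k (L m) = L m ^ k := by
  rw [L_eq_prod, Finsupp.prod, map_prod, ← Finset.prod_pow]
  refine Finset.prod_congr rfl fun i _ => ?_
  rw [map_pow, map_add, map_one, χ_X, add_sub_cancel, ← pow_mul, ← pow_mul, mul_comm]

lemma χ_χ (k l : ℕ) (f : MvPolynomial τ K) : χ k (χ l f) = χ (k * l) f := by
  have h : (χ (τ := τ) (K := K) k).comp (χ l) = χ (k * l) := by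
    apply MvPolynomial.algHom_ext
    intro i
    rw [AlgHom.comp_apply, χ_X, χ_X, map_sub, map_pow, map_add, map_one, χ_X, add_sub_cancel,
      pow_mul]
  exact DFunLike.congr_fun h f

lemma χ_one_eq (f : MvPolynomial τ K) : χ 1 f = f := by
  have h : (χ (τ := τ) (K := K) 1) = AlgHom.id K _ := by
    apply MvPolynomial.algHom_ext
    intro i
    rw [χ_X]; simp
  rw [h]; rfl

end shift

section ops

variable (τ : Type w) (K : Type u) [CommRing K] [BinomialRing K]

/-- the lambda structure on the polynomial ring with `1 + X i` line elements, `K` binomial -/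
@[reducible] noncomputable def opsMv : LambdaOps (MvPolynomial τ K) := opsOfBasis (lb τ K)

attribute [local instance] opsMv

variable {τ K}

lemma lamSeries_smul_L (c : K) (m : τ →₀ ℕ) :
    lamSeries (c • L m : MvPolynomial τ K) = bs c (L m) := by
  rw [← lb_apply]
  exact lamSeries_opsOfBasis (lb τ K) c m

lemma lamSeries_C (c : K) : lamSeries (C c : MvPolynomial τ K) = bs c 1 := by
  have h := lamSeries_smul_L (τ := τ) c 0
  rw [L_zero] at h
  rw [← h, ← algebraMap_eq, Algebra.algebraMap_eq_smul_one]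

lemma lam_C (n : ℕ) (c : K) :
    LambdaOps.lam n (C c : MvPolynomial τ K) = C (Ring.choose c n) := by
  rw [← coeff_lamSeries, lamSeries_C, coeff_bs, one_pow, mul_one, algebraMap_eq]

lemma bs_one (u : MvPolynomial τ K) : bs (1 : K) u = 1 + PowerSeries.C u * PowerSeries.X := by
  ext n : 1
  rw [coeff_bs, map_add, PowerSeries.coeff_C_mul, PowerSeries.coeff_one, PowerSeries.coeff_X,
    ← Nat.cast_one (R := K), Ring.choose_natCast]
  rcases n with _ | _ | n
  · simp
  · simp
  · simp [Nat.choose_eq_zero_of_lt (show 1 < n + 1 + 1 by omega)]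

lemma lamSeries_L (m : τ →₀ ℕ) :
    lamSeries (L m : MvPolynomial τ K) = 1 + PowerSeries.C (L m) * PowerSeries.X := by
  have h := lamSeries_smul_L (τ := τ) (1 : K) m
  rw [one_smul] at h
  rw [h, bs_one]

lemma lamSeries_one : lamSeries (1 : MvPolynomial τ K) = 1 + PowerSeries.X := by
  have h := lamSeries_L (τ := τ) (K := K) 0
  rw [L_zero] at h
  rw [h, map_one, one_mul]

lemma adamsOp_eq (k : ℕ) (hk : 1 ≤ k) (f : MvPolynomial τ K) : adamsOp k f = χ k f := by
  refine adamsOp_eq_algHom (lb τ K) ?_ k hk (χ k) ?_ f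
  · intro c m
    rw [lb_apply, lamSeries_smul_L]
  · intro m
    rw [lb_apply, χ_L]

lemma induction_L {P : MvPolynomial τ K → Prop} (h0 : P 0)
    (hadd : ∀ x y, P x → P y → P (x + y)) (h : ∀ (c : K) (m : τ →₀ ℕ), P (c • L m))
    (x : MvPolynomial τ K) : P x := by
  refine induction_basis (lb τ K) h0 hadd ?_ x
  intro c m
  rw [lb_apply]
  exact h c m

variable {K' : Type v} [CommRing K'] [BinomialRing K'] (φ : K →+* K')

lemma map_L (m : τ →₀ ℕ) : MvPolynomial.map φ (L m) = L m := by
  rw [L_eq_prod, L_eq_prod, Finsupp.prod, Finsupp.prod, map_prod]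
  refine Finset.prod_congr rfl fun i _ => ?_
  simp

/-- base change of binomial rings respects the lambda structures -/
lemma map_lam (n : ℕ) (f : MvPolynomial τ K) :
    MvPolynomial.map φ (LambdaOps.lam n f) = LambdaOps.lam n (MvPolynomial.map φ f) := by
  revert n
  rw [← mem_good]
  refine induction_L (P := fun f => f ∈ good (MvPolynomial.map φ)) (zero_mem _)
    (fun x y hx hy => add_mem hx hy) ?_ f
  intro c m
  rw [mem_good_iff_series, lamSeries_smul_L, MvPolynomial.smul_eq_C_mul, map_mul, map_C, map_L,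
    ← MvPolynomial.smul_eq_C_mul, lamSeries_smul_L]
  ext n : 1
  rw [PowerSeries.coeff_map, coeff_bs, coeff_bs, map_mul, map_pow, map_L, algebraMap_eq,
    algebraMap_eq, map_C, Ring.map_choose]

end ops

end K537.MvLine
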