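import Groth.Agent.LambdaRing.K537.MvLine
import Groth.Agent.LambdaRing.K536.RatSpecial
import Mathlib.RingTheory.Localization.FractionRing

/-!
# Binomial rings embed in `ℚ`-algebras, and the polynomial ring over a binomial ring with its line
element structure is a lambda-ring in the strict sense
-/

set_option autoImplicit false
universe u v w

open Finset LambdaRing

namespace K537.MvSpecial

open K537.Newton K537.BinSeries K537.MvLine MvPolynomial

section rat

variable (K : Type u) [CommRing K] [IsAddTorsionFree K]

lemma int_mem_nonZeroDivisors (n : ℤ) (hn : n ≠ 0) : (n : K) ∈ nonZeroDivisors K := by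
  rw [mem_nonZeroDivisors_iff_right]
  intro x hx
  have h : n • x = n • (0 : K) := by
    rw [zsmul_eq_mul, mul_comm, hx, smul_zero]
  exact zsmul_right_injective hn h

/-- the `ℚ`-algebra structure on the total ring of fractions of a torsion-free ring -/
@[reducible] noncomputable def ratAlgebra : Algebra ℚ (FractionRing K) :=
  RingHom.toAlgebra (IsLocalization.lift (M := nonZeroDivisors ℤ) (S := ℚ)
    (g := Int.castRingHom (FractionRing K)) (by
      intro y
      have h := IsLocalization.map_units (FractionRing K)
        (⟨((y : ℤ) : K), int_mem_nonZeroDivisors K y (nonZeroDivisors.coe_ne_zero y)⟩ :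
          nonZeroDivisors K)
      simpa using h))

end rat

section rational

variable (τ : Type w) (K : Type u) [CommRing K] [Algebra ℚ K] [BinomialRing K]

attribute [local instance] opsMv

lemma isSpecial_of_rat : IsSpecial (MvPolynomial τ K) := by
  apply K536.RatSpecial.isSpecial_of_adamsOp
  · intro k hk
    rw [adamsOp_eq k hk, map_one]
  · intro k hk x y
    rw [adamsOp_eq k hk, adamsOp_eq k hk, adamsOp_eq k hk, map_mul]
  · intro k k' hk hk' x
    rw [adamsOp_eq k hk, adamsOp_eq k' hk', adamsOp_eq (k * k') (Nat.mul_pos hk hk'), χ_χ]

end rational

attribute [local instance] opsMv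

/-- the polynomial ring over a binomial ring, with the `1 + X i` line elements, is a lambda-ring in
the strict sense -/
theorem isSpecial_mv (τ : Type w) (K : Type u) [CommRing K] [BinomialRing K] :
    IsSpecial (MvPolynomial τ K) := by
  have : IsAddTorsionFree K := BinomialRing.toIsAddTorsionFree
  let _ : Algebra ℚ (FractionRing K) := ratAlgebra K
  let _ : Module ℚ≥0 (FractionRing K) := Module.compHom _ NNRat.coeHom
  have := isSpecial_of_rat τ (FractionRing K)
  exact K536.RatSpecial.isSpecial_of_injective (MvPolynomial.map (algebraMap K (FractionRing K)))
    (MvPolynomial.map_injective _ (IsFractionRing.injective K (FractionRing K)))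
    (fun n x => map_lam _ n x) this

end K537.MvSpecial
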