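import Groth.Agent.LambdaRing.K537.MultiEsymm
import Mathlib.RingTheory.MvPolynomial.Homogeneous
import Mathlib.RingTheory.MvPolynomial.WeightedHomogeneous

/-!
# The filtration of a polynomial ring by the weight
-/

set_option autoImplicit false
universe u v w

open Finset MvPolynomial

namespace K537.Weight

open K537.MultiEsymm

section FW

variable {τ : Type w} {K : Type u} [CommRing K] (wt : τ → ℕ)

lemma mul_aux {f g : MvPolynomial τ K} {i j : ℕ}
    (hf : ∀ m, coeff m f ≠ 0 → i ≤ Finsupp.weight wt m)
    (hg : ∀ m, coeff m g ≠ 0 → j ≤ Finsupp.weight wt m) (m : τ →₀ ℕ) (hm : coeff m (f * g) ≠ 0) :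
    i + j ≤ Finsupp.weight wt m := by
  classical
  rw [coeff_mul] at hm
  obtain ⟨p, hp, hne⟩ := Finset.exists_ne_zero_of_sum_ne_zero hm
  rw [Finset.mem_antidiagonal] at hp
  rw [← hp, map_add]
  exact add_le_add (hf _ (left_ne_zero_of_mul hne)) (hg _ (right_ne_zero_of_mul hne))

/-- the polynomials all of whose monomials have weight at least `k` -/
def FW (k : ℕ) : Ideal (MvPolynomial τ K) where
  carrier := {f | ∀ m, coeff m f ≠ 0 → k ≤ Finsupp.weight wt m}
  zero_mem' := fun m hm => absurd (coeff_zero m) hm
  add_mem' := by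
    intro f g hf hg m hm
    rw [coeff_add] at hm
    by_cases h : coeff m f = 0
    · rw [h, zero_add] at hm
      exact hg m hm
    · exact hf m h
  smul_mem' := by
    intro a f hf m hm
    have := mul_aux wt (i := 0) (f := a) (fun _ _ => Nat.zero_le _) hf m hm
    omega

variable {wt}

lemma mem_FW {k : ℕ} {f : MvPolynomial τ K} :
    f ∈ FW wt k ↔ ∀ m, coeff m f ≠ 0 → k ≤ Finsupp.weight wt m := Iff.rfl

lemma FW_zero : (FW wt 0 : Ideal (MvPolynomial τ K)) = ⊤ := by
  rw [Ideal.eq_top_iff_one]
  intro m _
  exact Nat.zero_le _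

lemma FW_anti {i j : ℕ} (h : i ≤ j) : (FW wt j : Ideal (MvPolynomial τ K)) ≤ FW wt i :=
  fun _ hf m hm => h.trans (hf m hm)

lemma FW_mul {i j : ℕ} {f g : MvPolynomial τ K} (hf : f ∈ FW wt i) (hg : g ∈ FW wt j) :
    f * g ∈ FW wt (i + j) := fun m hm => mul_aux wt hf hg m hm

lemma FW_pow {i : ℕ} {f : MvPolynomial τ K} (hf : f ∈ FW wt i) (n : ℕ) : f ^ n ∈ FW wt (n * i) := by
  induction n with
  | zero => rw [zero_mul, FW_zero]; trivial
  | succ n ih =>
    rw [pow_succ, Nat.succ_mul]
    exact FW_mul ih hf

lemma monomial_mem_FW {k : ℕ} {m : τ →₀ ℕ} (h : k ≤ Finsupp.weight wt m) (c : K) :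
    monomial m c ∈ FW wt k := by
  classical
  intro m' hm'
  rw [coeff_monomial] at hm'
  split_ifs at hm' with h1
  · rw [← h1]; exact h
  · exact absurd rfl hm'

lemma mem_FW_of_homog {k n : ℕ} (h : k ≤ n) {f : MvPolynomial τ K}
    (hf : IsWeightedHomogeneous wt f n) : f ∈ FW wt k := fun m hm => by rw [hf hm]; exact h

lemma X_mem_FW (i : τ) : (X i : MvPolynomial τ K) ∈ FW wt (wt i) :=
  mem_FW_of_homog le_rfl (isWeightedHomogeneous_X K wt i)

lemma FW_induction {k : ℕ} {P : MvPolynomial τ K → Prop} (h0 : P 0)
    (hadd : ∀ f g, P f → P g → P (f + g))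
    (h : ∀ (m : τ →₀ ℕ) (c : K), k ≤ Finsupp.weight wt m → P (monomial m c))
    {f : MvPolynomial τ K} (hf : f ∈ FW wt k) : P f := by
  rw [← support_sum_monomial_coeff f]
  refine Finset.sum_induction _ P hadd h0 fun m hm => h m _ ?_
  exact hf m (mem_support_iff.1 hm)

lemma nsmul_mem_FW [IsAddTorsionFree K] {k n : ℕ} (hn : n ≠ 0) {f : MvPolynomial τ K}
    (h : n • f ∈ FW wt k) : f ∈ FW wt k := by
  intro m hm
  apply h m
  rw [coeff_smul]
  intro h0
  exact hm (nsmul_right_injective hn (h0.trans (smul_zero n).symm))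

/-- membership in terms of the weighted homogeneous components -/
lemma mem_FW_iff_component {k : ℕ} {f : MvPolynomial τ K} :
    f ∈ FW wt k ↔ ∀ n < k, weightedHomogeneousComponent wt n f = 0 := by
  classical
  constructor
  · intro hf n hn
    ext m
    rw [coeff_weightedHomogeneousComponent, coeff_zero]
    split_ifs with h
    · by_contra h2
      have := hf m h2
      omega
    · rfl
  · intro h m hm
    by_contra hlt
    have h2 := congrArg (coeff m) (h (Finsupp.weight wt m) (by omega))
    rw [coeff_weightedHomogeneousComponent, if_pos rfl, coeff_zero] at h2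
    exact hm h2

lemma mem_FW_one_iff (hwt : ∀ i, wt i ≠ 0) {f : MvPolynomial τ K} :
    f ∈ FW wt 1 ↔ constantCoeff f = 0 := by
  constructor
  · intro h
    by_contra h0
    have := h 0 h0
    rw [map_zero] at this
    omega
  · intro h m hm
    rw [Nat.one_le_iff_ne_zero]
    intro h0
    have h1 : m = 0 := by
      by_contra hm0
      obtain ⟨i, hi⟩ := Finsupp.ne_iff.1 hm0
      have h2 := Finsupp.le_weight_of_ne_zero' wt (s := i) (f := m) hi
      have := hwt i
      omega
    rw [h1] at hm
    exact hm h

end FW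

section iota

variable {S : Type v} (M : S → ℕ) (K : Type u) [CommRing K]

/-- the weights of the variables representing the elementary symmetric polynomials -/
def wI : Idx M → ℕ := fun p => (p.2 : ℕ) + 1

/-- the constant weight -/
def w1 : Idx M → ℕ := fun _ => 1

lemma E_homog (s : S) (k : ℕ) : IsWeightedHomogeneous (w1 M) (E M K s k) k := by
  rw [E, esymm, map_sum]
  refine IsWeightedHomogeneous.sum _ _ _ fun t ht => ?_
  rw [map_prod]
  have h := IsWeightedHomogeneous.prod t (fun i => rename (Sigma.mk s) (X i : MvPolynomial _ K))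
    (fun _ => 1) (w := w1 M) (fun i _ => by rw [rename_X]; exact isWeightedHomogeneous_X K (w1 M) _)
  rw [Finset.sum_const, smul_eq_mul, mul_one, (Finset.mem_powersetCard.1 ht).2] at h
  exact h

lemma iota_monomial_homog (m : Idx M →₀ ℕ) (c : K) :
    IsWeightedHomogeneous (w1 M) (iota M K (monomial m c)) (Finsupp.weight (wI M) m) := by
  rw [iota, aeval_monomial, algebraMap_eq, Finsupp.weight_apply, Finsupp.sum, Finsupp.prod]
  have h := IsWeightedHomogeneous.prod m.support (fun p => E M K p.1 (p.2 + 1) ^ m p)
    (fun p => m p • wI M p) (w := w1 M) (fun p _ => (E_homog M K p.1 (p.2 + 1)).pow (m p))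
  have h2 := (isWeightedHomogeneous_C (w1 M) c).mul h
  rwa [zero_add] at h2

lemma iota_homog {f : MvPolynomial (Idx M) K} {n : ℕ} (hf : IsWeightedHomogeneous (wI M) f n) :
    IsWeightedHomogeneous (w1 M) (iota M K f) n := by
  rw [← support_sum_monomial_coeff f, map_sum]
  refine IsWeightedHomogeneous.sum _ _ _ fun m hm => ?_
  have h := iota_monomial_homog M K m (coeff m f)
  rwa [hf (mem_support_iff.1 hm)] at h

lemma component_iota (f : MvPolynomial (Idx M) K) (n : ℕ) :
    weightedHomogeneousComponent (w1 M) n (iota M K f) =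
      iota M K (weightedHomogeneousComponent (wI M) n f) := by
  classical
  induction f using MvPolynomial.induction_on' with
  | monomial m c =>
    have h1 := isWeightedHomogeneous_monomial (wI M) m c (m := Finsupp.weight (wI M) m) rfl
    have h2 := iota_monomial_homog M K m c
    by_cases hn : Finsupp.weight (wI M) m = n
    · subst hn
      rw [h1.weightedHomogeneousComponent_same, h2.weightedHomogeneousComponent_same]
    · rw [h1.weightedHomogeneousComponent_ne n (Ne.symm hn),
        h2.weightedHomogeneousComponent_ne n (Ne.symm hn), map_zero]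
  | add f g hf hg => rw [map_add, map_add, map_add, map_add, hf, hg]

/-- the weight filtration is induced by the filtration by the degree in the roots -/
lemma iota_mem_FW_iff (f : MvPolynomial (Idx M) K) (k : ℕ) :
    iota M K f ∈ FW (w1 M) k ↔ f ∈ FW (wI M) k := by
  rw [mem_FW_iff_component, mem_FW_iff_component]
  refine forall_congr' fun n => forall_congr' fun _ => ?_
  rw [component_iota]
  constructor
  · intro h
    exact iota_injective M K (h.trans (map_zero _).symm)
  · intro h
    rw [h, map_zero]

end iota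

end K537.Weight
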