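import Groth.Agent.LambdaRing.K537.MvGamma
import Groth.Agent.LambdaRing.K537.Weight
import Groth.Agent.LambdaRing.K537.Filt
import Mathlib.Algebra.Group.ForwardDiff

/-!
# Gamma operations and the filtration by the degree on `MvPolynomial τ K`, `1 + X i` line elements
-/

set_option autoImplicit false
universe u v w

open Finset LambdaRing

namespace K537.MvWeight

open Groth.Agent.Books.Lambda1 Groth.Agent.Books.Lambda2
open K537.Newton K537.BinSeries K537.MvLine K537.MvGamma K537.Weight K537.Filt MvPolynomial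

variable {τ : Type w} {K : Type u} [CommRing K] [BinomialRing K]

attribute [local instance] opsMv torsionFree_mv

variable (τ) in
/-- the constant weight -/
abbrev w1 : τ → ℕ := fun _ => 1

variable (τ K) in
/-- the filtration by the degree as additive subgroups -/
noncomputable def WW (k : ℕ) : AddSubgroup (MvPolynomial τ K) := (FW (K := K) (w1 τ) k).toAddSubgroup

omit [BinomialRing K] in
lemma mem_WW {k : ℕ} {f : MvPolynomial τ K} : f ∈ WW τ K k ↔ f ∈ FW (w1 τ) k := Iff.rfl

omit [BinomialRing K] in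
lemma WW_isMulFilt : IsMulFilt (WW τ K) where
  one_mem := by rw [mem_WW, FW_zero]; trivial
  anti := fun h => FW_anti h
  mul_mem := fun ha hb => FW_mul ha hb

omit [BinomialRing K] in
lemma constantCoeff_L (m : τ →₀ ℕ) : constantCoeff (L m : MvPolynomial τ K) = 1 := by
  rw [L_eq_prod, Finsupp.prod, map_prod]
  refine Finset.prod_eq_one fun i _ => ?_
  simp

omit [BinomialRing K] in
lemma L_sub_one_mem (m : τ →₀ ℕ) : (L m - 1 : MvPolynomial τ K) ∈ FW (w1 τ) 1 := by
  rw [mem_FW_one_iff (fun _ => one_ne_zero), map_sub, constantCoeff_L, map_one, sub_self]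

/-- the gamma operations of an element without constant term -/
lemma gammaIn_of_constantCoeff (f : MvPolynomial τ K) (hf : constantCoeff f = 0) :
    GammaIn (WW τ K) f := by
  have key : ∀ f : MvPolynomial τ K, GammaIn (WW τ K) (f - C (constantCoeff f)) := by
    intro f
    refine induction_L (P := fun f => GammaIn (WW τ K) (f - C (constantCoeff f))) ?_ ?_ ?_ f
    · rw [map_zero, map_zero, sub_zero]
      exact GammaIn.zero WW_isMulFilt
    · intro x y hx hy
      have : x + y - C (constantCoeff (x + y)) =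
          (x - C (constantCoeff x)) + (y - C (constantCoeff y)) := by
        rw [map_add, map_add]; ring
      rw [this]
      exact GammaIn.add WW_isMulFilt hx hy
    · intro c m k
      have h1 : constantCoeff (c • L m : MvPolynomial τ K) = c := by
        rw [smul_eq_C_mul, map_mul, constantCoeff_C, constantCoeff_L, mul_one]
      have h2 : (c • L m : MvPolynomial τ K) - C c = c • (L m - 1) := by
        rw [smul_eq_C_mul, smul_eq_C_mul]; ring
      rw [h1, h2, gamma_smul_L_sub_one, mem_WW]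
      have h3 := FW_pow (L_sub_one_mem (K := K) m) k
      rw [mul_one] at h3
      rw [smul_eq_C_mul]
      exact Ideal.mul_mem_left _ _ h3
  have h := key f
  rwa [hf, map_zero, sub_zero] at h

lemma gamma_mem_FW {f : MvPolynomial τ K} (hf : f ∈ FW (w1 τ) 1) (k : ℕ) :
    gamma k f ∈ FW (w1 τ) k :=
  gammaIn_of_constantCoeff f ((mem_FW_one_iff (fun _ => one_ne_zero)).1 hf) k

section adams

omit [BinomialRing K] in
lemma χ_X_sub (k : ℕ) (i : τ) :
    χ k (X i : MvPolynomial τ K) - (k : MvPolynomial τ K) * X i ∈ FW (w1 τ) 2 := by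
  rw [χ_X]
  induction k with
  | zero => simp
  | succ k ih =>
    have h1 : (X i : MvPolynomial τ K) ∈ FW (w1 τ) 1 := X_mem_FW i
    have h2 : (1 + X i : MvPolynomial τ K) ^ (k + 1) - 1 - ((k + 1 : ℕ) : MvPolynomial τ K) * X i =
        ((1 + X i) ^ k - 1 - (k : MvPolynomial τ K) * X i) * (1 + X i) +
          (k : MvPolynomial τ K) * (X i * X i) := by
      push_cast
      ring
    rw [h2]
    exact add_mem (Ideal.mul_mem_right _ _ ih) (Ideal.mul_mem_left _ _ (FW_mul h1 h1))

variable (K) in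
/-- the property `ψ^k f ≡ k^n f` modulo higher order terms -/
def Eig (k n : ℕ) (f : MvPolynomial τ K) : Prop :=
  f ∈ FW (w1 τ) n ∧ χ k f ∈ FW (w1 τ) n ∧
    χ k f - (k : MvPolynomial τ K) ^ n * f ∈ FW (w1 τ) (n + 1)

omit [BinomialRing K] in
lemma Eig.mul {k n n' : ℕ} {f g : MvPolynomial τ K} (hf : Eig K k n f) (hg : Eig K k n' g) :
    Eig K k (n + n') (f * g) := by
  obtain ⟨hf1, hf2, hf3⟩ := hf
  obtain ⟨hg1, hg2, hg3⟩ := hg
  refine ⟨FW_mul hf1 hg1, ?_, ?_⟩
  · rw [map_mul]; exact FW_mul hf2 hg2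
  · have h : χ k (f * g) - (k : MvPolynomial τ K) ^ (n + n') * (f * g) =
        (χ k f - (k : MvPolynomial τ K) ^ n * f) * χ k g +
          (k : MvPolynomial τ K) ^ n * (f * (χ k g - (k : MvPolynomial τ K) ^ n' * g)) := by
      rw [map_mul, pow_add]; ring
    rw [h]
    refine add_mem ?_ (Ideal.mul_mem_left _ _ ?_)
    · have := FW_mul hf3 hg2
      rwa [show n + 1 + n' = n + n' + 1 by omega] at this
    · have := FW_mul hf1 hg3
      rwa [← add_assoc] at this

omit [BinomialRing K] in
lemma Eig.C (k : ℕ) (c : K) : Eig K k 0 (MvPolynomial.C c : MvPolynomial τ K) := by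
  have h : χ k (MvPolynomial.C c : MvPolynomial τ K) = MvPolynomial.C c := (χ k).commutes c
  refine ⟨by rw [FW_zero]; trivial, by rw [FW_zero]; trivial, ?_⟩
  rw [h, pow_zero, one_mul, sub_self]
  exact zero_mem _

omit [BinomialRing K] in
lemma Eig.X (k : ℕ) (i : τ) : Eig K k 1 (MvPolynomial.X i : MvPolynomial τ K) := by
  have h := χ_X_sub (K := K) k i
  have h1 : (MvPolynomial.X i : MvPolynomial τ K) ∈ FW (w1 τ) 1 := X_mem_FW i
  refine ⟨h1, ?_, by rwa [pow_one]⟩
  have h2 : χ k (MvPolynomial.X i : MvPolynomial τ K) =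
      (χ k (MvPolynomial.X i) - (k : MvPolynomial τ K) * MvPolynomial.X i) +
        (k : MvPolynomial τ K) * MvPolynomial.X i := by ring
  rw [h2]
  exact add_mem (FW_anti (by omega) h) (Ideal.mul_mem_left _ _ h1)

omit [BinomialRing K] in
lemma Eig.pow {k n : ℕ} {f : MvPolynomial τ K} (hf : Eig K k n f) (e : ℕ) :
    Eig K k (e * n) (f ^ e) := by
  induction e with
  | zero =>
    rw [zero_mul, pow_zero, ← MvPolynomial.C_1]
    exact Eig.C k 1
  | succ e ih =>
    rw [pow_succ, Nat.succ_mul]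
    exact ih.mul hf

omit [BinomialRing K] in
lemma Eig.monomial (k : ℕ) (m : τ →₀ ℕ) (c : K) :
    Eig K k (Finsupp.weight (w1 τ) m) (MvPolynomial.monomial m c) := by
  have h1 : ∀ m : τ →₀ ℕ, Eig K k (Finsupp.weight (w1 τ) m)
      (MvPolynomial.monomial m (1 : K)) := by
    intro m
    induction m using Finsupp.induction_linear with
    | zero => rw [map_zero]; exact Eig.C k 1
    | add m m' ih ih' =>
      have h : MvPolynomial.monomial (m + m') (1 : K) =
          MvPolynomial.monomial m 1 * MvPolynomial.monomial m' 1 := by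
        rw [monomial_mul, one_mul]
      rw [h, map_add]
      exact ih.mul ih'
    | single i e =>
      rw [Finsupp.weight_single, smul_eq_mul]
      have h : MvPolynomial.monomial (Finsupp.single i e) (1 : K) = MvPolynomial.X i ^ e := by
        rw [X_pow_eq_monomial]
      rw [h]
      exact (Eig.X k i).pow e
  have h2 := (Eig.C (τ := τ) k c).mul (h1 m)
  rwa [zero_add, C_mul_monomial, mul_one] at h2

omit [BinomialRing K] in
lemma Eig.add {k n : ℕ} {f g : MvPolynomial τ K} (hf : Eig K k n f) (hg : Eig K k n g) :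
    Eig K k n (f + g) := by
  refine ⟨add_mem hf.1 hg.1, ?_, ?_⟩
  · rw [map_add]; exact add_mem hf.2.1 hg.2.1
  · have h : χ k (f + g) - (k : MvPolynomial τ K) ^ n * (f + g) =
        (χ k f - (k : MvPolynomial τ K) ^ n * f) + (χ k g - (k : MvPolynomial τ K) ^ n * g) := by
      rw [map_add]; ring
    rw [h]
    exact add_mem hf.2.2 hg.2.2

omit [BinomialRing K] in
lemma Eig.of_lt {k n n' : ℕ} (h : n < n') {f : MvPolynomial τ K} (hf : Eig K k n' f) :
    Eig K k n f := by
  refine ⟨FW_anti h.le hf.1, FW_anti h.le hf.2.1, ?_⟩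
  exact sub_mem (FW_anti h hf.2.1) (Ideal.mul_mem_left _ _ (FW_anti h hf.1))

omit [BinomialRing K] in
/-- `ψ^k f ≡ k^n f` modulo higher order terms for `f` of order `n` -/
lemma eig_of_mem {k n : ℕ} {f : MvPolynomial τ K} (hf : f ∈ FW (w1 τ) n) : Eig K k n f := by
  refine FW_induction (P := fun f => Eig K k n f) ?_ (fun f g => Eig.add) ?_ hf
  · refine ⟨zero_mem _, ?_, ?_⟩
    · rw [map_zero]; exact zero_mem _
    · rw [map_zero, mul_zero, sub_zero]; exact zero_mem _
  · intro m c h
    rcases h.lt_or_eq with h | h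
    · exact Eig.of_lt h (Eig.monomial k m c)
    · have := Eig.monomial (K := K) k m c
      rwa [← h] at this

end adams

section leading

/-- the lambda operations of an element of order `n ≥ 1` -/
lemma lam_mem_FW {n : ℕ} (hn : 1 ≤ n) {f : MvPolynomial τ K} (hf : f ∈ FW (w1 τ) n) (k : ℕ) :
    LambdaOps.lam (k + 1) f ∈ FW (w1 τ) n ∧
      LambdaOps.lam (k + 1) f - (-1) ^ k * ((k + 1 : ℕ) : MvPolynomial τ K) ^ (n - 1) * f ∈
        FW (w1 τ) (n + 1) := by
  have : IsAddTorsionFree K := BinomialRing.toIsAddTorsionFree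
  have key : ∀ k : ℕ, (∀ i, 1 ≤ i → i ≤ k → LambdaOps.lam i f ∈ FW (w1 τ) n) →
      (((k : MvPolynomial τ K) + 1) * LambdaOps.lam (k + 1) f -
        (-1) ^ k * ((k + 1 : ℕ) : MvPolynomial τ K) ^ n * f) ∈ FW (w1 τ) (n + 1) := by
    intro k hk
    rw [newton, Finset.sum_range_succ', LambdaOps.lam_zero, one_mul, Nat.sub_zero,
      adamsOp_eq (k + 1) (by omega)]
    have h1 : ∑ i ∈ range k, LambdaOps.lam (i + 1) f *
        ((-1) ^ (k - (i + 1)) * adamsOp (k - (i + 1) + 1) f) ∈ FW (w1 τ) (n + 1) := by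
      refine sum_mem fun i hi => ?_
      have hi := Finset.mem_range.1 hi
      rw [adamsOp_eq _ (by omega)]
      have h2 := FW_mul (hk (i + 1) (by omega) (by omega))
        (Ideal.mul_mem_left _ ((-1) ^ (k - (i + 1))) (eig_of_mem (k := k - (i + 1) + 1) hf).2.1)
      exact FW_anti (by omega) h2
    have h3 := Ideal.mul_mem_left _ ((-1) ^ k) (eig_of_mem (k := k + 1) hf).2.2
    have h4 := add_mem h1 h3
    convert h4 using 1
    ring
  have hlam : ∀ k, LambdaOps.lam (k + 1) f ∈ FW (w1 τ) n := by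
    intro k
    induction k using Nat.strong_induction_on with
    | _ k ih =>
      have h1 := key k (fun i hi hik => by
        obtain ⟨j, rfl⟩ : ∃ j, i = j + 1 := ⟨i - 1, by omega⟩
        exact ih j (by omega))
      have h2 : ((k : MvPolynomial τ K) + 1) * LambdaOps.lam (k + 1) f ∈ FW (w1 τ) n := by
        have h3 := add_mem (FW_anti (Nat.le_succ n) h1)
          (Ideal.mul_mem_left _ ((-1) ^ k * ((k + 1 : ℕ) : MvPolynomial τ K) ^ n) hf)
        rwa [sub_add_cancel] at h3
      apply nsmul_mem_FW (n := k + 1) (by omega)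
      rw [nsmul_eq_mul]
      push_cast
      exact h2
  refine ⟨hlam k, ?_⟩
  apply nsmul_mem_FW (n := k + 1) (by omega)
  have h1 := key k (fun i hi _ => by
    obtain ⟨j, rfl⟩ : ∃ j, i = j + 1 := ⟨i - 1, by omega⟩
    exact hlam j)
  rw [nsmul_eq_mul]
  convert h1 using 1
  obtain ⟨m, rfl⟩ : ∃ m, n = m + 1 := ⟨n - 1, by omega⟩
  rw [Nat.add_sub_cancel, pow_succ]
  push_cast
  ring

lemma sum_choose_pow (m : ℕ) :
    ∑ j ∈ range (m + 1), (-1 : ℤ) ^ j * (m.choose j : ℤ) * ((j : ℤ) + 1) ^ m =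
      (-1) ^ m * (m.factorial : ℤ) := by
  have h1 := fwdDiff_iter_eq_sum_shift (1 : ℤ) (fun r : ℤ => r ^ m) m 1
  have h2 := congrFun (fwdDiff_iter_eq_factorial (R := ℤ) (n := m)) 1
  rw [h2] at h1
  have h3 : ((m.factorial : ℤ → ℤ) 1) = (m.factorial : ℤ) := by simp
  rw [h3] at h1
  rw [h1, Finset.mul_sum]
  refine Finset.sum_congr rfl fun j hj => ?_
  have hj := Finset.mem_range.1 hj
  have h4 : (-1 : ℤ) ^ m * (-1) ^ (m - j) = (-1) ^ j := by
    obtain ⟨d, rfl⟩ : ∃ d, m = j + d := ⟨m - j, by omega⟩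
    rw [show j + d - j = d by omega, pow_add, mul_assoc, ← pow_add, ← two_mul, pow_mul]
    simp
  rw [smul_eq_mul, ← mul_assoc, ← mul_assoc, h4]
  simp only [nsmul_eq_mul, mul_one]
  rw [add_comm (1 : ℤ)]

/-- the leading term of `γ^n` on elements of order `n` -/
theorem gamma_leading {n : ℕ} (hn : 1 ≤ n) {f : MvPolynomial τ K} (hf : f ∈ FW (w1 τ) n) :
    gamma n f - (-1) ^ (n - 1) * ((n - 1).factorial : MvPolynomial τ K) * f ∈
      FW (w1 τ) (n + 1) := by
  obtain ⟨m, rfl⟩ : ∃ m, n = m + 1 := ⟨n - 1, by omega⟩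
  rw [Nat.add_sub_cancel]
  have h1 : gamma (m + 1) f = ∑ j ∈ range (m + 1),
      (m.choose j : MvPolynomial τ K) * LambdaOps.lam (j + 1) f := by
    rw [gamma, if_neg (by omega), Finset.sum_range_succ', if_pos rfl, mul_zero, add_zero]
    refine Finset.sum_congr rfl fun j _ => ?_
    rw [if_neg (by omega)]
    congr 2
  have h2 : (-1) ^ m * (m.factorial : MvPolynomial τ K) =
      ∑ j ∈ range (m + 1), (-1) ^ j * (m.choose j : MvPolynomial τ K) *
        ((j : MvPolynomial τ K) + 1) ^ m := by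
    have := congrArg (Int.castRingHom (MvPolynomial τ K)) (sum_choose_pow m)
    simpa using this.symm
  rw [h1, h2, Finset.sum_mul, ← Finset.sum_sub_distrib]
  refine sum_mem fun j _ => ?_
  have h3 := Ideal.mul_mem_left _ (m.choose j : MvPolynomial τ K) (lam_mem_FW hn hf j).2
  rw [Nat.add_sub_cancel] at h3
  convert h3 using 1
  push_cast
  ring

end leading

end K537.MvWeight
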