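import Groth.Agent.Books.Lambda1
import Groth.Prelude.Def_LambdaSp
import Mathlib.Algebra.Algebra.Rat

/-!
# Newton recurrences: the lambda operations and the Adams operations determine each other over the rationals
-/

set_option autoImplicit false
universe u v

open Finset LambdaRing PowerSeries

namespace K537.Newton

open Groth.Agent.Books.Lambda1

section basic

variable {K : Type u} [CommRing K] [LambdaOps K]

lemma derivative_lamSeries (x : K) :
    PowerSeries.derivative K (lamSeries x) = lamSeries x * logDerivSeries x := by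
  have h : lamSeries x * (lamSeries x).invOfUnit 1 = 1 :=
    PowerSeries.mul_invOfUnit _ _ (by simp)
  rw [logDerivSeries]
  calc PowerSeries.derivative K (lamSeries x)
      = PowerSeries.derivative K (lamSeries x) * (lamSeries x * (lamSeries x).invOfUnit 1) := by
        rw [h, mul_one]
    _ = _ := by ring

lemma coeff_logDerivSeries (x : K) (k : ℕ) :
    coeff k (logDerivSeries x) = (-1) ^ k * adamsOp (k + 1) x := by
  rw [adamsOp, ← mul_assoc, ← mul_pow]
  simp

/-- a series `D` with `λ_t(x)' = λ_t(x) D` is the logarithmic derivative -/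
lemma logDerivSeries_unique (x : K) (D : PowerSeries K)
    (h : PowerSeries.derivative K (lamSeries x) = lamSeries x * D) : logDerivSeries x = D := by
  have hu : IsUnit (lamSeries x) := isUnit_lamSeries x
  apply hu.mul_left_cancel
  rw [← derivative_lamSeries, h]

lemma logDerivSeries_add (x y : K) :
    logDerivSeries (x + y) = logDerivSeries x + logDerivSeries y := by
  apply logDerivSeries_unique
  rw [lamSeries_add, Derivation.leibniz, derivative_lamSeries, derivative_lamSeries]
  simp only [smul_eq_mul]
  ring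

lemma adamsOp_add (k : ℕ) (x y : K) : adamsOp k (x + y) = adamsOp k x + adamsOp k y := by
  cases k with
  | zero => simp [adamsOp]
  | succ k => rw [adamsOp, adamsOp, adamsOp, logDerivSeries_add, map_add, mul_add]

lemma adamsOp_zero_arg (k : ℕ) : adamsOp k (0 : K) = 0 := by
  have h := adamsOp_add k (0 : K) 0
  rw [add_zero] at h
  simpa using h

/-- the Adams operation as an additive map -/
noncomputable def adamsHom (k : ℕ) : K →+ K where
  toFun := adamsOp k
  map_zero' := adamsOp_zero_arg k
  map_add' := adamsOp_add k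

lemma adamsHom_apply (k : ℕ) (x : K) : adamsHom k x = adamsOp k x := rfl

lemma adamsOp_neg (k : ℕ) (x : K) : adamsOp k (-x) = -adamsOp k x := map_neg (adamsHom k) x

lemma adamsOp_sub (k : ℕ) (x y : K) : adamsOp k (x - y) = adamsOp k x - adamsOp k y :=
  map_sub (adamsHom k) x y

lemma adamsOp_sum (k : ℕ) {ι : Type*} (s : Finset ι) (x : ι → K) :
    adamsOp k (∑ i ∈ s, x i) = ∑ i ∈ s, adamsOp k (x i) := map_sum (adamsHom k) x s

/-- Newton's recurrence -/
lemma newton (x : K) (n : ℕ) :
    ((n : K) + 1) * LambdaOps.lam (n + 1) x =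
      ∑ i ∈ range (n + 1), LambdaOps.lam i x * ((-1) ^ (n - i) * adamsOp (n - i + 1) x) := by
  have h := congrArg (coeff n) (derivative_lamSeries x)
  rw [PowerSeries.coeff_derivative, coeff_mul, Finset.Nat.sum_antidiagonal_eq_sum_range_succ_mk] at h
  simp only [coeff_lamSeries, coeff_logDerivSeries] at h
  rw [← h]
  ring

end basic

section recursion

variable {K : Type u} [CommRing K] [Algebra ℚ K]

/-- the coefficients of the solution of `f' = f d`, `f(0) = 1` -/
noncomputable def c (d : ℕ → K) : ℕ → K
  | 0 => 1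
  | n + 1 => ((n + 1 : ℚ)⁻¹) • ∑ i : Fin (n + 1), c d i.1 * d (n - i.1)
decreasing_by exact i.2

lemma c_zero (d : ℕ → K) : c d 0 = 1 := by rw [c]

lemma c_succ (d : ℕ → K) (n : ℕ) :
    ((n : K) + 1) * c d (n + 1) = ∑ i ∈ range (n + 1), c d i * d (n - i) := by
  rw [c, ← Fin.sum_univ_eq_sum_range (fun i => c d i * d (n - i)) (n + 1)]
  have h : ((n : K) + 1) = algebraMap ℚ K (n + 1 : ℚ) := by simp
  rw [h, ← Algebra.smul_def, smul_smul, mul_inv_cancel₀ (by positivity), one_smul]

lemma cast_mul_cancel {n : ℕ} {a b : K} (h : ((n : K) + 1) * a = ((n : K) + 1) * b) : a = b := by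
  have h1 : ((n : K) + 1) = algebraMap ℚ K (n + 1 : ℚ) := by simp
  have h2 : algebraMap ℚ K ((n + 1 : ℚ)⁻¹) * ((n : K) + 1) = 1 := by
    rw [h1, ← map_mul, inv_mul_cancel₀ (by positivity), map_one]
  calc a = algebraMap ℚ K ((n + 1 : ℚ)⁻¹) * (((n : K) + 1) * a) := by rw [← mul_assoc, h2, one_mul]
    _ = b := by rw [h, ← mul_assoc, h2, one_mul]

lemma c_unique (d : ℕ → K) (f : ℕ → K) (h0 : f 0 = 1)
    (h : ∀ n : ℕ, ((n : K) + 1) * f (n + 1) = ∑ i ∈ range (n + 1), f i * d (n - i)) (n : ℕ) :
    f n = c d n := by
  induction n using Nat.strong_induction_on with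
  | _ n ih =>
    obtain _ | n := n
    · rw [h0, c_zero]
    · apply cast_mul_cancel
      rw [h, c_succ]
      refine Finset.sum_congr rfl fun i hi => ?_
      rw [ih i (by simpa using hi)]

lemma derivative_mk_c (d : ℕ → K) :
    PowerSeries.derivative K (PowerSeries.mk (c d)) = PowerSeries.mk (c d) * PowerSeries.mk d := by
  ext n
  rw [PowerSeries.coeff_derivative, coeff_mul, Finset.Nat.sum_antidiagonal_eq_sum_range_succ_mk]
  simp only [coeff_mk]
  rw [← c_succ]
  ring

lemma mk_c_add (d d' : ℕ → K) :
    PowerSeries.mk (c (d + d')) = PowerSeries.mk (c d) * PowerSeries.mk (c d') := by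
  ext n
  rw [coeff_mk]
  symm
  refine c_unique (d + d') (fun n => coeff n (PowerSeries.mk (c d) * PowerSeries.mk (c d'))) ?_ ?_ n
  · simp [c_zero]
  · intro n
    have h : PowerSeries.derivative K (PowerSeries.mk (c d) * PowerSeries.mk (c d')) =
        PowerSeries.mk (c d) * PowerSeries.mk (c d') * PowerSeries.mk (d + d') := by
      rw [Derivation.leibniz, derivative_mk_c, derivative_mk_c]
      have : PowerSeries.mk (d + d') = PowerSeries.mk d + PowerSeries.mk d' := by
        ext n; simp
      rw [this]
      simp only [smul_eq_mul]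
      ring
    have h2 := congrArg (coeff n) h
    rw [PowerSeries.coeff_derivative, coeff_mul _ (PowerSeries.mk (c d) * PowerSeries.mk (c d')),
      Finset.Nat.sum_antidiagonal_eq_sum_range_succ_mk] at h2
    simp only [coeff_mk, Pi.add_apply] at h2 ⊢
    rw [← h2]
    ring

lemma c_neg_one_ne (ψ : ℕ → K) : c ψ 1 = ψ 0 := by
  have h := c_succ ψ 0
  simpa [c_zero] using h

/-- the pre-λ-structure with given Adams operations -/
@[reducible] noncomputable def opsOfAdams (ψ : ℕ → K →+ K) (hψ : ψ 1 = AddMonoidHom.id K) : LambdaOps K where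
  lam n x := c (fun k => (-1) ^ k * ψ (k + 1) x) n
  lam_zero x := c_zero _
  lam_one x := by rw [c_neg_one_ne]; simp [hψ]
  lam_add k x y := by
    have h : (fun k => (-1 : K) ^ k * ψ (k + 1) (x + y)) =
        (fun k => (-1) ^ k * ψ (k + 1) x) + (fun k => (-1) ^ k * ψ (k + 1) y) := by
      funext k
      simp [mul_add]
    have h2 := congrArg (coeff k)
      (mk_c_add (fun k => (-1) ^ k * ψ (k + 1) x) (fun k => (-1) ^ k * ψ (k + 1) y))
    rw [coeff_mk, coeff_mul, Finset.Nat.sum_antidiagonal_eq_sum_range_succ_mk] at h2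
    simp only [coeff_mk] at h2
    rw [h, h2]

lemma adamsOp_opsOfAdams (ψ : ℕ → K →+ K) (hψ : ψ 1 = AddMonoidHom.id K) (k : ℕ) (hk : 1 ≤ k)
    (x : K) : @adamsOp K _ (opsOfAdams ψ hψ) k x = ψ k x := by
  let _ := opsOfAdams ψ hψ
  obtain ⟨k, rfl⟩ : ∃ m, k = m + 1 := ⟨k - 1, by omega⟩
  have h : logDerivSeries x = PowerSeries.mk (fun k => (-1) ^ k * ψ (k + 1) x) := by
    apply logDerivSeries_unique
    exact derivative_mk_c _
  change adamsOp (k + 1) x = _
  rw [adamsOp, h, coeff_mk, ← mul_assoc, ← mul_pow]
  simp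

/-- over the rationals, the lambda operations are the Newton recursion in the Adams operations -/
lemma lam_eq_c [LambdaOps K] (n : ℕ) (x : K) :
    LambdaOps.lam n x = c (fun k => (-1) ^ k * adamsOp (k + 1) x) n := by
  refine c_unique _ (fun n => LambdaOps.lam n x) (LambdaOps.lam_zero x) (fun n => ?_) n
  exact newton x n

lemma map_c {K' : Type v} [CommRing K'] [Algebra ℚ K'] (f : K →+* K') (d : ℕ → K) (n : ℕ) :
    f (c d n) = c (fun k => f (d k)) n := by
  refine c_unique _ (fun n => f (c d n)) ?_ (fun n => ?_) n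
  · simp [c_zero]
  · have := congrArg f (c_succ d n)
    simpa using this

end recursion

section map

variable {K : Type u} {K' : Type v} [CommRing K] [CommRing K'] [LambdaOps K] [LambdaOps K']

/-- the Adams operations commute with a ring homomorphism that respects the lambda operations of `x` -/
lemma map_adamsOp (f : K →+* K') (x : K)
    (h : ∀ n, f (LambdaOps.lam n x) = LambdaOps.lam n (f x)) (k : ℕ) :
    f (adamsOp k x) = adamsOp k (f x) := by
  have h1 : PowerSeries.map f (lamSeries x) = lamSeries (f x) := by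
    ext n; simp [h]
  have h2 : PowerSeries.map f (logDerivSeries x) = logDerivSeries (f x) := by
    symm
    apply logDerivSeries_unique
    rw [← h1, ← map_mul, ← derivative_lamSeries]
    ext n
    simp [PowerSeries.coeff_derivative]
  cases k with
  | zero => simp [adamsOp]
  | succ k => rw [adamsOp, adamsOp, ← h2, coeff_map]; simp

/-- conversely, over the rationals a ring homomorphism that respects the Adams operations of `x`
respects its lambda operations -/
lemma map_lam_of_map_adamsOp [Algebra ℚ K] [Algebra ℚ K'] (f : K →+* K') (x : K)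
    (h : ∀ k, 1 ≤ k → f (adamsOp k x) = adamsOp k (f x)) (n : ℕ) :
    f (LambdaOps.lam n x) = LambdaOps.lam n (f x) := by
  rw [lam_eq_c, lam_eq_c, map_c]
  congr 1
  funext k
  simp [h (k + 1) (by omega)]

end map

end K537.Newton
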