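import Groth.Agent.LambdaRing.K537.Rank

/-!
# The quotient `γ^p(x λ_{-1}(N)) / λ_{-1}(N)`
-/

set_option autoImplicit false
set_option linter.unusedSectionVars false
set_option linter.unusedVariables false
universe u v w

open Finset LambdaRing

namespace K537.Quot

open Groth.Agent.Books.Lambda1 Groth.Agent.Books.Lambda2 K536.Basic
open K537.Filt K537.MultiEsymm K537.Closure K537.Univ K537.Transfer K537.GammaFil K537.Div K537.Rank

variable {K : Type u} [CommRing K] [BinomialRing K]
  {A : Type v} [CommRing A] [LambdaOps A] [Algebra K A] (hA : IsSpecial A)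
  (hKB : ∀ (n : ℕ) (c : K),
    LambdaOps.lam n (algebraMap K A c) = algebraMap K A (Ring.choose c n))
  (ε : A →ₐ[K] K) (d : ℕ) (N : A)

/-- the alternating sum of the lambda operations -/
noncomputable def ell {A : Type v} [CommRing A] [LambdaOps A] (d : ℕ) (N : A) : A :=
  ∑ i ∈ range (d + 1), (-1 : A) ^ i * LambdaOps.lam i N

/-- the universal version -/
noncomputable def ellU (A : Type v) (K : Type u) [CommRing K] (d N' : ℕ) : UV (MM A d N') K :=
  (-1) ^ d * g (MM A d N') none d

omit [BinomialRing K] in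
lemma neg_one_pow_sq {R : Type*} [CommRing R] (d : ℕ) : ((-1 : R) ^ d) * (-1) ^ d = 1 := by
  rw [← mul_pow]; simp

omit [BinomialRing K] in
lemma ellU_mem_W (N' : ℕ) : ellU A K d N' ∈ W (MM A d N') K d :=
  Ideal.mul_mem_left _ _ (g_mem_W none d)

omit [BinomialRing K] in
lemma mem_W_of_ellU_mul (hd : 1 ≤ d) {N' k : ℕ} {f : UV (MM A d N') K}
    (h : ellU A K d N' * f ∈ W (MM A d N') K k) : f ∈ W (MM A d N') K (k - d) := by
  have h1 : g (MM A d N') none d * f ∈ W (MM A d N') K k := by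
    have h2 := Ideal.mul_mem_left _ ((-1) ^ d) h
    have h3 : (-1) ^ d * (ellU A K d N' * f) = g (MM A d N') none d * f := by
      rw [ellU, ← mul_assoc, ← mul_assoc, neg_one_pow_sq, one_mul]
    rwa [h3] at h2
  exact mem_W_of_g_mul hd rfl h1

lemma ellU_dvd (N' : ℕ) (f : UV (MM A d N') K) (p : ℕ) (hp : 1 ≤ p) :
    ∃ q, gamma p (f * ellU A K d N') = ellU A K d N' * q := by
  have h := dvd_gamma_mul (isSpecial_UV (MM A d N') K)
    (fun j hj => g_dvd_lam (MM A d N') K none j hj) (f * (-1) ^ d) p hp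
  obtain ⟨q, hq⟩ := h
  refine ⟨(-1) ^ d * q, ?_⟩
  have h2 : MM A d N' none = d := rfl
  rw [h2] at hq
  rw [ellU, ← mul_assoc, hq]
  linear_combination (-(g (MM A d N') none d * q)) * neg_one_pow_sq (R := UV (MM A d N') K) d

variable {d N}
variable (hN : ∀ k : ℕ, d < k → LambdaOps.lam k N = 0)

include hA in
lemma rankOne_one_of_special : RankOne (1 : A) := fun j hj => hA.lam_one_eq_zero j hj

include hA hN in
lemma good_none (N' b : ℕ) :
    Good (MM A d N') (yy ε (N - (d : A))) none b :=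
  Or.inr fun k hk => gamma_sub_of_lt (rankOne_one_of_special hA) hN hk

include hA in
lemma φ_ellU (N' : ℕ) :
    φ (K := K) (MM A d N') (yy ε (N - (d : A))) (ellU A K d N') = ell d N := by
  have h : yy ε (N - (d : A)) none = N - (d : A) := rfl
  rw [ellU, map_mul, map_pow, map_neg, map_one,
    φ_g (K := K) (MM A d N') (yy ε (N - (d : A))) none d (Or.inl (show d ≤ d from le_rfl)), h,
    gamma_sub_self (rankOne_one_of_special hA), ← mul_assoc, neg_one_pow_sq, one_mul, ell]

include hA hN in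
lemma ellU_mem_G (N' b : ℕ) :
    ellU A K d N' ∈ G (φ (K := K) (MM A d N') (yy ε (N - (d : A)))).toRingHom b := by
  have h1 := g_mem_G (K := K) hA (good_none hA ε hN N' (d * b))
  have h2 : (-1 : UV (MM A d N') K) ∈
      G (φ (K := K) (MM A d N') (yy ε (N - (d : A)))).toRingHom b :=
    neg_mem (G_one (isSpecial_UV _ _) hA b)
  have h3 : ∀ e : ℕ, ((-1 : UV (MM A d N') K) ^ e) ∈
      G (φ (K := K) (MM A d N') (yy ε (N - (d : A)))).toRingHom b := by
    intro e
    induction e with
    | zero => rw [pow_zero]; exact G_one (isSpecial_UV _ _) hA b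
    | succ e ih => rw [pow_succ]; exact mul_mem_G hA ih h2
  exact mul_mem_G hA (h3 d) h1

include hA hN in
/-- the universal description of `γ^p(x λ_{-1}(N))` -/
theorem main {n b : ℕ} {x : A} (hx : Lifts ε d (N - (d : A)) n b x) {p : ℕ} (hp : 1 ≤ p)
    (hpb : p ≤ b) : ∃ (N' : ℕ) (f q : UV (MM A d N') K), f ∈ W (MM A d N') K n ∧
      φ (K := K) (MM A d N') (yy ε (N - (d : A))) f = x ∧
      gamma p (f * ellU A K d N') = ellU A K d N' * q ∧
      gamma p (x * ell d N) = ell d N * φ (K := K) (MM A d N') (yy ε (N - (d : A))) q := by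
  obtain ⟨N', hN'⟩ := hx
  obtain ⟨f, hf1, hf2, hf3⟩ := hN' N' le_rfl
  obtain ⟨q, hq⟩ := ellU_dvd (K := K) d N' f p hp
  refine ⟨N', f, q, hf1, hf3, hq, ?_⟩
  have h1 := map_gamma_of_mem_G (mul_mem_G hA hf2 (ellU_mem_G hA ε hN N' b)) hpb
  change φ _ _ (gamma p (f * ellU A K d N')) = gamma p (φ _ _ (f * ellU A K d N')) at h1
  rw [hq, map_mul, map_mul, hf3, φ_ellU hA ε] at h1
  exact h1.symm

end K537.Quot
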