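import Groth.Agent.LambdaRing.K537.Div
import Groth.Agent.LambdaRing.K537.GammaFil

/-!
# Elements of finite rank, and lifting elements of the gamma filtration to the universal ring
-/

set_option autoImplicit false
universe u v w

open Finset LambdaRing

namespace K537.Rank

open Groth.Agent.Books.Lambda1 Groth.Agent.Books.Lambda2 K536.Basic
open K537.Filt K537.MultiEsymm K537.Closure K537.Univ K537.Transfer K537.GammaFil K537.Div

section rank

variable {B : Type v} [CommRing B] [LambdaOps B] (h1 : RankOne (1 : B)) {d : ℕ} {N : B}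
  (hN : ∀ k : ℕ, d < k → LambdaOps.lam k N = 0)

include h1 hN

lemma gamma_sub_of_lt {k : ℕ} (hk : d < k) : gamma k (N - (d : B)) = 0 := by
  rw [gamma_eq_lam h1]
  obtain ⟨m, rfl⟩ : ∃ m, k = d + 1 + m := ⟨k - (d + 1), by omega⟩
  have h : N - (d : B) + ((d + 1 + m : ℕ) : B) - 1 = N + (m : B) := by push_cast; ring
  rw [h, LambdaOps.lam_add]
  refine Finset.sum_eq_zero fun i _ => ?_
  by_cases hi : d < i
  · rw [hN i hi, zero_mul]
  · rw [lam_natCast h1, Nat.choose_eq_zero_of_lt (by omega), Nat.cast_zero, mul_zero]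

omit hN in
lemma gamma_sub_self : gamma d (N - (d : B)) =
    (-1) ^ d * ∑ i ∈ range (d + 1), (-1 : B) ^ i * LambdaOps.lam i N := by
  rw [gamma_eq_lam h1, sub_add_cancel, lam_add_sub_one h1]

end rank

section lift

variable {K : Type u} [CommRing K] [BinomialRing K]
  {A : Type v} [CommRing A] [LambdaOps A] [Algebra K A] (hA : IsSpecial A)
  (hKB : ∀ (n : ℕ) (c : K),
    LambdaOps.lam n (algebraMap K A c) = algebraMap K A (Ring.choose c n))
  (ε : A →ₐ[K] K) (d : ℕ) (ν : A)

/-- the numbers of roots: `d` for the distinguished generator, `N` for the others -/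
def MM (A : Type v) (d N : ℕ) : Option A → ℕ := fun o => o.elim d fun _ => N

/-- the values of the generators -/
def yy : Option A → A := fun o => o.elim ν fun a => a - algebraMap K A (ε a)

/-- `x` lifts to an element of weight at least `n` of the universal ring, compatibly with the
lambda operations up to `b`, for all large truncations -/
def Lifts (n b : ℕ) (x : A) : Prop :=
  ∃ N₀ : ℕ, ∀ N ≥ N₀, ∃ f : UV (MM A d N) K, f ∈ W (MM A d N) K n ∧
    f ∈ G (φ (K := K) (MM A d N) (yy ε ν)).toRingHom b ∧ φ (K := K) (MM A d N) (yy ε ν) f = x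

variable {d ν ε}

lemma Lifts.zero (n b : ℕ) : Lifts ε d ν n b (0 : A) :=
  ⟨0, fun N _ => ⟨0, zero_mem _, zero_mem _, map_zero _⟩⟩

lemma Lifts.add {n b : ℕ} {x x' : A} (h : Lifts ε d ν n b x) (h' : Lifts ε d ν n b x') :
    Lifts ε d ν n b (x + x') := by
  obtain ⟨N₀, hN⟩ := h
  obtain ⟨N₁, hN'⟩ := h'
  refine ⟨max N₀ N₁, fun N hNN => ?_⟩
  obtain ⟨f, hf1, hf2, hf3⟩ := hN N (le_trans (le_max_left _ _) hNN)
  obtain ⟨f', hf1', hf2', hf3'⟩ := hN' N (le_trans (le_max_right _ _) hNN)
  exact ⟨f + f', add_mem hf1 hf1', add_mem hf2 hf2', by rw [map_add, hf3, hf3']⟩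

include hA in
lemma Lifts.mul {n n' b : ℕ} {x x' : A} (h : Lifts ε d ν n b x) (h' : Lifts ε d ν n' b x') :
    Lifts ε d ν (n + n') b (x * x') := by
  obtain ⟨N₀, hN⟩ := h
  obtain ⟨N₁, hN'⟩ := h'
  refine ⟨max N₀ N₁, fun N hNN => ?_⟩
  obtain ⟨f, hf1, hf2, hf3⟩ := hN N (le_trans (le_max_left _ _) hNN)
  obtain ⟨f', hf1', hf2', hf3'⟩ := hN' N (le_trans (le_max_right _ _) hNN)
  exact ⟨f * f', W_mul hf1 hf1', mul_mem_G hA hf2 hf2', by rw [map_mul, hf3, hf3']⟩

lemma Lifts.anti {n n' b : ℕ} (hn : n ≤ n') {x : A} (h : Lifts ε d ν n' b x) :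
    Lifts ε d ν n b x := by
  obtain ⟨N₀, hN⟩ := h
  refine ⟨N₀, fun N hNN => ?_⟩
  obtain ⟨f, hf1, hf2, hf3⟩ := hN N hNN
  exact ⟨f, W_anti hn hf1, hf2, hf3⟩

include hKB in
lemma lifts_algebraMap (b : ℕ) (c : K) : Lifts ε d ν 0 b (algebraMap K A c) :=
  ⟨0, fun N _ => ⟨algebraMap K _ c, by rw [W_zero]; trivial, algebraMap_mem_G hKB c b,
    AlgHom.commutes _ _⟩⟩

include hA in
lemma lifts_gamma (i b : ℕ) (a : A) (ha : ε a = 0) :
    Lifts ε d ν i b (gamma i a) := by
  refine ⟨i * b + i, fun N hN => ⟨g (MM A d N) (some a) i, g_mem_W _ _, ?_, ?_⟩⟩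
  · refine g_mem_G hA (Or.inl ?_)
    change i * b ≤ N
    omega
  · have h : yy ε ν (some a) = a := by
      change a - algebraMap K A (ε a) = a
      rw [ha, map_zero, sub_zero]
    rw [φ_g _ _ _ _ (Or.inl (show i ≤ N by omega)), h]

include hA hKB in
/-- every element lifts -/
lemma lifts_zero (b : ℕ) (x : A) : Lifts ε d ν 0 b x := by
  have h0 : ε (x - algebraMap K A (ε x)) = 0 := by
    rw [map_sub, AlgHom.commutes]; simp
  have h1 := lifts_gamma (d := d) (ν := ν) hA 1 b (x - algebraMap K A (ε x)) h0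
  rw [gamma_one] at h1
  have h2 := (h1.anti (Nat.zero_le 1)).add (lifts_algebraMap hKB b (ε x))
  rwa [sub_add_cancel] at h2

include hA hKB in
/-- elements of the gamma filtration lift to elements of the weight filtration -/
theorem lifts_of_mem (n b : ℕ) (x : A) (hx : x ∈ gammaFil (ε : A →+* K) n) :
    Lifts ε d ν n b x := by
  induction hx using Submodule.span_induction with
  | mem x hx =>
    obtain ⟨l, hl, hn, rfl⟩ := hx
    refine Lifts.anti hn ?_
    clear hn
    induction l with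
    | nil =>
      have h := lifts_algebraMap (ε := ε) (d := d) (ν := ν) hKB b 1
      rw [map_one] at h
      simpa using h
    | cons p l ih =>
      simp only [List.map_cons, List.prod_cons, List.sum_cons]
      exact Lifts.mul hA (lifts_gamma hA p.1 b p.2 (hl p (by simp)))
        (ih fun q hq => hl q (by simp [hq]))
  | zero => exact Lifts.zero _ _
  | add x y _ _ h h' => exact h.add h'
  | smul a x _ h =>
    have h2 := Lifts.mul hA (lifts_zero hA hKB b a) h
    rwa [zero_add] at h2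

/-- the generators have deep gamma operations -/
lemma yy_gammaIn (hν : ε ν = 0) (s : Option A) :
    GammaIn (GF (ε : A →+* K)) (yy ε ν s) := by
  apply gammaIn_GF
  rcases s with _ | a
  · exact hν
  · change ε (a - algebraMap K A (ε a)) = 0
    rw [map_sub, AlgHom.commutes]
    simp

lemma φ_mem_gammaFil (hν : ε ν = 0) {N n : ℕ} {f : UV (MM A d N) K}
    (hf : f ∈ W (MM A d N) K n) :
    φ (K := K) (MM A d N) (yy ε ν) f ∈ gammaFil (ε : A →+* K) n :=
  φ_mem (GF_isMulFilt (ε : A →+* K)) (fun c => by rw [mem_GF, gammaFil_zero]; trivial)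
    (yy_gammaIn hν) hf

end lift

end K537.Rank
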