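import Groth.Agent.LambdaRing.K537.Univ

/-!
# Transfer from the universal lambda-rings to an arbitrary strict lambda-ring over a binomial ring
-/

set_option autoImplicit false
universe u v w

open Finset LambdaRing

namespace K537.Transfer

open Groth.Agent.Books.Lambda1 Groth.Agent.Books.Lambda2
open K537.Newton K537.BinSeries K537.Weight K537.Filt K537.MultiEsymm K537.Closure K537.Univ
  MvPolynomial

section phi

variable {S : Type v} (M : S → ℕ) {K : Type u} [CommRing K] {B : Type w} [CommRing B]
  [LambdaOps B] [Algebra K B] (y : S → B)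

/-- the comparison homomorphism -/
noncomputable def φ : UV M K →ₐ[K] B :=
  MvPolynomial.aeval (R := K) fun p : Idx M => gamma (p.2 + 1) (y p.1)

lemma φ_xv (p : Idx M) : φ (K := K) M y (xv M p) = gamma (p.2 + 1) (y p.1) :=
  MvPolynomial.aeval_X _ p

lemma φ_g (s : S) (i : ℕ) (h : i ≤ M s ∨ gamma i (y s) = 0) :
    φ (K := K) M y (g M s i) = gamma i (y s) := by
  rcases Nat.eq_zero_or_pos i with h0 | h0
  · subst h0
    rw [g_zero, map_one, gamma_zero]
  · by_cases h2 : M s < i
    · rw [g_of_lt M s h2, map_zero]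
      rcases h with h | h
      · omega
      · exact h.symm
    · obtain ⟨j, hj⟩ : ∃ j : Fin (M s), i = j + 1 := ⟨⟨i - 1, by omega⟩, by simp; omega⟩
      subst hj
      rw [g_succ, φ_xv]

end phi

section transfer

variable {S : Type v} {M : S → ℕ} {K : Type u} [CommRing K] [BinomialRing K] {B : Type w}
  [CommRing B] [LambdaOps B] [Algebra K B] {y : S → B}

/-- the index `s` is good up to `b`: either `M s ≥ b` or `γ^k (y s)` vanishes for `k > M s` -/
def Good (M : S → ℕ) (y : S → B) (s : S) (b : ℕ) : Prop :=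
  b ≤ M s ∨ ∀ k, M s < k → gamma k (y s) = 0

omit [CommRing K] [BinomialRing K] [Algebra K B] in
lemma Good.alt {s : S} {b : ℕ} (h : Good M y s b) {i : ℕ} (hi : i ≤ b) :
    i ≤ M s ∨ gamma i (y s) = 0 := by
  rcases h with h | h
  · left; omega
  · by_cases h2 : i ≤ M s
    · left; exact h2
    · right; exact h i (by omega)

lemma algebraMap_mem_G (hKB : ∀ (n : ℕ) (c : K),
    LambdaOps.lam n (algebraMap K B c) = algebraMap K B (Ring.choose c n)) (c : K) (b : ℕ) :
    algebraMap K (UV M K) c ∈ G (φ (K := K) M y).toRingHom b := by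
  intro k _
  change (φ M y) _ = LambdaOps.lam k ((φ M y) _)
  rw [lam_algebraMap, AlgHom.commutes, AlgHom.commutes, hKB]

lemma g_one_mem_G {s : S} {b : ℕ} (h : Good M y s b) :
    (g M s 1 : UV M K) ∈ G (φ (K := K) M y).toRingHom b := by
  rcases Nat.eq_zero_or_pos b with hb | hb
  · subst hb
    intro k hk
    obtain rfl : k = 0 := by omega
    rw [LambdaOps.lam_zero, LambdaOps.lam_zero, map_one]
  · apply mem_G_of_gamma
    intro k hk
    change (φ M y) _ = gamma k ((φ M y) _)
    rw [gamma_g, φ_g M y s k (h.alt hk), φ_g M y s 1 (h.alt hb), gamma_one]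

variable (hB : IsSpecial B)

include hB

lemma g_mem_G {s : S} {b i : ℕ} (h : Good M y s (i * b)) :
    (g M s i : UV M K) ∈ G (φ (K := K) M y).toRingHom b := by
  rcases Nat.eq_zero_or_pos b with hb | hb
  · subst hb
    intro k hk
    obtain rfl : k = 0 := by omega
    rw [LambdaOps.lam_zero, LambdaOps.lam_zero, map_one]
  · rw [← gamma_g]
    exact G_gamma (isSpecial_UV M K) hB hQ hb (g_one_mem_G h)

lemma mul_mem_G {b : ℕ} {f f' : UV M K} (hf : f ∈ G (φ (K := K) M y).toRingHom b)
    (hf' : f' ∈ G (φ (K := K) M y).toRingHom b) : f * f' ∈ G (φ (K := K) M y).toRingHom b :=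
  G_mul (isSpecial_UV M K) hB hP hf hf'

/-- when all indices are exact, the comparison homomorphism respects the lambda operations -/
lemma mem_G_of_exact (hKB : ∀ (n : ℕ) (c : K),
    LambdaOps.lam n (algebraMap K B c) = algebraMap K B (Ring.choose c n))
    (h : ∀ s k, M s < k → gamma k (y s) = 0) (f : UV M K) (b : ℕ) :
    f ∈ G (φ (K := K) M y).toRingHom b := by
  refine induction_UV M (P := fun f => f ∈ G (φ (K := K) M y).toRingHom b) ?_ ?_ ?_ f
  · intro c; exact algebraMap_mem_G hKB c b
  · intro x y hx hy; exact add_mem hx hy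
  · intro x s i _ _ hx
    exact mul_mem_G hB hx (g_mem_G hB (Or.inr (h s)))

end transfer

section filt

variable {S : Type v} {M : S → ℕ} {K : Type u} [CommRing K] {B : Type w}
  [CommRing B] [LambdaOps B] [Algebra K B] {y : S → B} {Wb : ℕ → AddSubgroup B}

/-- the comparison homomorphism respects the filtrations -/
lemma φ_mem (hW : IsMulFilt Wb) (hK : ∀ c : K, algebraMap K B c ∈ Wb 0)
    (hy : ∀ s, GammaIn Wb (y s)) {k : ℕ} {f : UV M K} (hf : f ∈ W M K k) :
    φ (K := K) M y f ∈ Wb k := by
  refine FW_induction (P := fun f : MvPolynomial (Idx M) K => φ (K := K) M y f ∈ Wb k) ?_ ?_ ?_ hf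
  · exact (map_zero (φ (K := K) M y)).symm ▸ zero_mem _
  · intro f f' h h'
    have := map_add (φ (K := K) M y) f f'
    exact this.symm ▸ add_mem h h'
  · intro m c hm
    have h1 : φ (K := K) M y (monomial m c : MvPolynomial (Idx M) K) =
        algebraMap K B c * m.prod fun p e => gamma (p.2 + 1) (y p.1) ^ e :=
      aeval_monomial _ _ _
    change φ (K := K) M y (monomial m c : MvPolynomial (Idx M) K) ∈ Wb k
    rw [h1]
    have hpow : ∀ (x : B) (i e : ℕ), x ∈ Wb i → x ^ e ∈ Wb (e * i) := by
      intro x i e hx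
      induction e with
      | zero => rw [pow_zero, zero_mul]; exact hW.one_mem
      | succ e ih => rw [pow_succ, Nat.succ_mul]; exact hW.mul_mem ih hx
    have h2 : ∀ t : Finset (Idx M), (∏ p ∈ t, gamma (p.2 + 1) (y p.1) ^ m p) ∈
        Wb (∑ p ∈ t, m p * (p.2 + 1)) := by
      classical
      intro t
      induction t using Finset.induction_on with
      | empty => simpa using hW.one_mem
      | insert a t ha ih =>
        rw [Finset.prod_insert ha, Finset.sum_insert ha]
        exact hW.mul_mem (hpow _ _ _ (hy _ _)) ih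
    have h3 := hW.mul_mem (hK c) (h2 m.support)
    rw [zero_add] at h3
    refine hW.anti ?_ h3
    rw [Finsupp.weight_apply, Finsupp.sum] at hm
    simpa [wI] using hm

variable [BinomialRing K] (hB : IsSpecial B) (hW : IsMulFilt Wb)
  (hK : ∀ c : K, algebraMap K B c ∈ Wb 0)
  (hKB : ∀ (n : ℕ) (c : K),
    LambdaOps.lam n (algebraMap K B c) = algebraMap K B (Ring.choose c n))

include hW hK

lemma gamma_φ_mem (hy : ∀ s, GammaIn Wb (y s)) {b k : ℕ} (hk : k ≤ b) {f : UV M K}
    (hf : f ∈ W M K 1) (hG : f ∈ G (φ (K := K) M y).toRingHom b) :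
    gamma k (φ (K := K) M y f) ∈ Wb k := by
  have h := map_gamma_of_mem_G hG hk
  change φ (K := K) M y _ = gamma k (φ (K := K) M y _) at h
  rw [← h]
  exact φ_mem hW hK hy (gamma_mem_W hf k)

include hB

/-- products of elements with deep gamma operations -/
theorem GammaIn.mul' {x x' : B} (hx : GammaIn Wb x) (hx' : GammaIn Wb x') :
    GammaIn Wb (x * x') := by
  intro k
  let y : Bool → B := fun b => if b then x else x'
  have hy : ∀ s, GammaIn Wb (y s) := by
    intro s
    cases s
    · exact hx'
    · exact hx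
  have hgood : ∀ s, Good (fun _ : Bool => k + 1) y s (1 * k) := fun s => Or.inl (by simp)
  have h1 := g_mem_G (K := K) hB (hgood true)
  have h2 := g_mem_G (K := K) hB (hgood false)
  have h3 := mul_mem_G hB h1 h2
  have h4 := gamma_φ_mem hW hK hy le_rfl
    (W_anti (show 1 ≤ 1 + 1 by omega) (W_mul (g_mem_W true 1) (g_mem_W false 1))) h3
  rw [map_mul, φ_g _ _ _ _ (Or.inl (by omega)), φ_g _ _ _ _ (Or.inl (by omega)), gamma_one,
    gamma_one] at h4
  exact h4

/-- gamma operations of elements with deep gamma operations -/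
theorem GammaIn.gamma' {x : B} (hx : GammaIn Wb x) {i : ℕ} (hi : 1 ≤ i) :
    GammaIn Wb (gamma i x) := by
  intro k
  let y : Unit → B := fun _ => x
  have hy : ∀ s, GammaIn Wb (y s) := fun _ => hx
  have h1 := g_mem_G (K := K) (S := Unit) (M := fun _ => i * (k + 1)) (y := y) (s := ()) (b := k)
    (i := i) hB (Or.inl (Nat.mul_le_mul_left i (by omega)))
  have h4 := gamma_φ_mem hW hK hy le_rfl (W_anti hi (g_mem_W () i)) h1
  have h5 : i ≤ i * (k + 1) := Nat.le_mul_of_pos_right i (by omega)
  rw [φ_g (K := K) (fun _ => i * (k + 1)) y () i (Or.inl h5)] at h4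
  exact h4

include hKB

/-- scalar multiples of elements with deep gamma operations -/
theorem GammaIn.smul' {x : B} (c : K) (hx : GammaIn Wb x) :
    GammaIn Wb (algebraMap K B c * x) := by
  intro k
  let y : Unit → B := fun _ => x
  have hy : ∀ s, GammaIn Wb (y s) := fun _ => hx
  have h1 := g_mem_G (K := K) (S := Unit) (M := fun _ => k + 1) (y := y) (s := ()) (b := k)
    (i := 1) hB (Or.inl (show 1 * k ≤ k + 1 by omega))
  have h3 := mul_mem_G hB (algebraMap_mem_G hKB c k) h1
  have h4 := gamma_φ_mem hW hK hy le_rfl (Ideal.mul_mem_left _ (algebraMap K _ c) (g_mem_W () 1)) h3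
  rw [map_mul, AlgHom.commutes, φ_g _ _ _ _ (Or.inl (by omega)), gamma_one] at h4
  exact h4

end filt

end K537.Transfer
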