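import Groth.Agent.LambdaRing.K537.MvSpecial
import Groth.Agent.LambdaRing.K537.MvWeight
import Groth.Agent.LambdaRing.K537.Closure

/-!
# The universal (truncated) lambda-rings over a binomial ring

For a family `M : S → ℕ` and a binomial ring `K`, `UV M K` is the polynomial ring on variables
`g s i`, `1 ≤ i ≤ M s`, with a lambda structure such that `gamma i (z s) = g s i` (zero for
`i > M s`), where `z s = g s 1`.
-/

set_option autoImplicit false
universe u v w

open Finset LambdaRing

namespace K537.Univ

open Groth.Agent.Books.Lambda1 Groth.Agent.Books.Lambda2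
open K537.Newton K537.BinSeries K537.MvLine K537.MvGamma K537.Weight K537.Filt K537.MultiEsymm
  K537.MvWeight K537.Closure MvPolynomial

lemma hP : ∀ n : ℕ, ∃ P : MvPolynomial (Fin n ⊕ Fin n) ℤ, IsMulPoly n P :=
  fun n => K536.UnivPoly.exists_isMulPoly n

lemma hQ : ∀ i j : ℕ, ∃ Q : MvPolynomial (Fin (i * j)) ℤ, IsCompPoly i j Q :=
  fun i j => K536.UnivComp.exists_isCompPoly i j

section defs

variable {S : Type v} (M : S → ℕ) (K : Type u) [CommRing K]

/-- the universal polynomial ring -/
def UV : Type (max u v) := MvPolynomial (Idx M) K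

noncomputable instance : CommRing (UV M K) := inferInstanceAs (CommRing (MvPolynomial (Idx M) K))

noncomputable instance : Algebra K (UV M K) := inferInstanceAs (Algebra K (MvPolynomial (Idx M) K))

/-- the embedding in the polynomial ring on the roots -/
noncomputable def ι : UV M K →ₐ[K] MvPolynomial (Idx M) K := iota M K

lemma ι_injective : Function.Injective (ι M K) := iota_injective M K

variable {K}

/-- the variables -/
noncomputable def xv (p : Idx M) : UV M K := (X p : MvPolynomial (Idx M) K)

/-- the element representing `γ^i` of the `s`-th generator -/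
noncomputable def g (s : S) (i : ℕ) : UV M K :=
  if i = 0 then 1 else if h : i - 1 < M s then xv M ⟨s, ⟨i - 1, h⟩⟩ else 0

lemma g_zero (s : S) : (g M s 0 : UV M K) = 1 := by rw [g, if_pos rfl]

lemma g_of_lt (s : S) {i : ℕ} (h : M s < i) : (g M s i : UV M K) = 0 := by
  rw [g, if_neg (by omega), dif_neg (by omega)]

lemma g_succ (s : S) (i : Fin (M s)) :
    (g M s (i + 1) : UV M K) = xv M ⟨s, i⟩ := by
  rw [g, if_neg (by omega), dif_pos (by omega)]
  rfl

lemma ι_g (s : S) (i : ℕ) : ι M K (g M s i) = E M K s i := by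
  rcases Nat.eq_zero_or_pos i with h | h
  · subst h
    rw [g_zero, map_one, E, esymm_zero, map_one]
  · by_cases h2 : M s < i
    · rw [g_of_lt M s h2, map_zero, E, esymm]
      rw [Finset.powersetCard_eq_empty.2 (by simpa using h2), Finset.sum_empty, map_zero]
    · obtain ⟨j, hj⟩ : ∃ j : Fin (M s), i = j + 1 := ⟨⟨i - 1, by omega⟩, by simp; omega⟩
      subst hj
      rw [g_succ]
      exact iota_X M K ⟨s, j⟩

/-- induction on the universal polynomial ring -/
lemma induction_UV {P : UV M K → Prop} (hC : ∀ c : K, P (algebraMap K _ c))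
    (hadd : ∀ x y, P x → P y → P (x + y))
    (hmul : ∀ (x : UV M K) (s : S) (i : ℕ), 1 ≤ i → i ≤ M s → P x → P (x * g M s i))
    (x : UV M K) : P x := by
  refine MvPolynomial.induction_on (motive := fun x : MvPolynomial (Idx M) K => P x) x hC hadd ?_
  rintro x ⟨s, i⟩ hx
  have h := hmul x s (i + 1) (by omega) (by omega) hx
  rwa [g_succ] at h

end defs

section ops

variable {S : Type v} (M : S → ℕ) (K : Type u) [CommRing K] [BinomialRing K]

attribute [local instance] opsMv torsionFree_mv

lemma ι_mem_cl (f : UV M K) : ι M K f ∈ cl (ι M K).toRingHom.range := by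
  have hsp : IsSpecial (MvPolynomial (Idx M) K) := K537.MvSpecial.isSpecial_mv _ _
  refine induction_UV M (P := fun f => ι M K f ∈ cl (ι M K).toRingHom.range) ?_ ?_ ?_ f
  · intro c n
    rw [AlgHom.commutes, algebraMap_eq, lam_C]
    exact ⟨algebraMap K _ (Ring.choose c n), (ι M K).commutes _⟩
  · intro x y hx hy
    rw [map_add]
    exact add_mem hx hy
  · intro x s i _ _ hx
    rw [map_mul]
    refine cl_mul hsp hP hx ?_
    rw [ι_g, ← gamma_sum_X]
    refine cl_gamma hsp hQ (mem_cl_of_gamma fun n => ?_) i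
    rw [gamma_sum_X, ← ι_g]
    exact ⟨g M s n, rfl⟩

lemma exists_lam (x : UV M K) (n : ℕ) :
    ∃ y : UV M K, (ι M K).toRingHom y = LambdaOps.lam n ((ι M K).toRingHom x) := ι_mem_cl M K x n

noncomputable instance : LambdaOps (UV M K) :=
  opsPull (ι M K).toRingHom (ι_injective M K) (exists_lam M K)

lemma ι_lam (n : ℕ) (x : UV M K) : ι M K (LambdaOps.lam n x) = LambdaOps.lam n (ι M K x) :=
  map_opsPull (ι M K).toRingHom (ι_injective M K) (exists_lam M K) n x

theorem isSpecial_UV : IsSpecial (UV M K) :=
  K536.RatSpecial.isSpecial_of_injective (ι M K).toRingHom (ι_injective M K)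
    (fun n x => ι_lam M K n x) (K537.MvSpecial.isSpecial_mv _ _)

lemma ι_gamma (n : ℕ) (x : UV M K) : ι M K (gamma n x) = gamma n (ι M K x) :=
  map_gamma_of (ι M K).toRingHom n x (fun j _ => ι_lam M K j x) n le_rfl

variable {K} {M}

lemma lam_algebraMap (n : ℕ) (c : K) :
    LambdaOps.lam n (algebraMap K (UV M K) c) = algebraMap K (UV M K) (Ring.choose c n) := by
  apply ι_injective M K
  rw [ι_lam, AlgHom.commutes, AlgHom.commutes, algebraMap_eq, lam_C]

lemma E_one (s : S) : E M K s 1 = ∑ j : Fin (M s), X (⟨s, j⟩ : Idx M) := by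
  rw [← gamma_sum_X, gamma_one]

lemma gamma_g (s : S) (i : ℕ) : gamma i (g M s 1 : UV M K) = g M s i := by
  apply ι_injective M K
  rw [ι_gamma, ι_g, ι_g, E_one, gamma_sum_X]

end ops

section weight

variable {S : Type v} (M : S → ℕ) (K : Type u) [CommRing K]

/-- the filtration of the universal ring by the weight -/
noncomputable def W (k : ℕ) : Ideal (UV M K) := FW (K := K) (wI M) k

variable {M K}

lemma mem_W_iff {k : ℕ} {f : UV M K} :
    f ∈ W M K k ↔ ι M K f ∈ FW (K537.MvWeight.w1 (Idx M)) k :=
  (iota_mem_FW_iff M K f k).symm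

lemma W_zero : W M K 0 = ⊤ := FW_zero

lemma W_anti {i j : ℕ} (h : i ≤ j) : W M K j ≤ W M K i := FW_anti h

lemma W_mul {i j : ℕ} {f h : UV M K} (hf : f ∈ W M K i) (hh : h ∈ W M K j) :
    f * h ∈ W M K (i + j) := FW_mul hf hh

lemma g_mem_W (s : S) (i : ℕ) : (g M s i : UV M K) ∈ W M K i := by
  rw [mem_W_iff, ι_g]
  exact mem_FW_of_homog le_rfl (E_homog M K s i)

variable [BinomialRing K]

attribute [local instance] opsMv torsionFree_mv

/-- the gamma operations of an element without constant term -/
theorem gamma_mem_W {f : UV M K} (hf : f ∈ W M K 1) (k : ℕ) : gamma k f ∈ W M K k := by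
  rw [mem_W_iff] at hf ⊢
  rw [ι_gamma]
  exact gamma_mem_FW hf k

/-- the leading term of `γ^n` on elements of weight at least `n` -/
theorem gamma_leading_W {n : ℕ} (hn : 1 ≤ n) {f : UV M K} (hf : f ∈ W M K n) :
    gamma n f - (-1) ^ (n - 1) * ((n - 1).factorial : UV M K) * f ∈ W M K (n + 1) := by
  rw [mem_W_iff] at hf ⊢
  have h := gamma_leading hn hf
  rw [map_sub, map_mul, map_mul, map_pow, map_neg, map_one, map_natCast, ι_gamma]
  exact h

end weight

end K537.Univ
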